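import Mathlib
import Cfsg.Prelude.Def_Transfer

/-!
Frobenius' normal `p`-complement criterion (by fusion control and the focal subgroup theorem), and Burnside's
fusion lemma for abelian Sylow subgroups.
-/

universe u

namespace CfsgLib.PNilpotent

open Subgroup commutatorElement

variable {G : Type u} [Group G] [Finite G] {p : ℕ} [hp : Fact p.Prime]

/-- A power `e`-th part decomposition of an element into a `p`-part and a part of order prime to `p`. -/
theorem exists_pPart_decomp (g : G) :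
    ∃ a b : ℕ, g ^ a * g ^ b = g ∧ (∃ k, orderOf (g ^ a) = p ^ k) ∧ (orderOf (g ^ b)).Coprime p := by
  obtain ⟨k, m, hm, hkm⟩ := Nat.exists_eq_pow_mul_and_not_dvd (orderOf_pos g).ne' p hp.out.ne_one
  have hcop : Nat.Coprime (p ^ k) m :=
    Nat.Coprime.pow_left _ ((Nat.Prime.coprime_iff_not_dvd hp.out).mpr hm)
  obtain ⟨a, ha1, ha2⟩ := Nat.chineseRemainder hcop 1 0
  obtain ⟨b, hb1, hb2⟩ := Nat.chineseRemainder hcop 0 1
  refine ⟨a, b, ?_, ?_, ?_⟩
  · rw [← pow_add]
    conv_rhs => rw [← pow_one g]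
    rw [pow_eq_pow_iff_modEq, hkm, ← Nat.modEq_and_modEq_iff_modEq_mul hcop]
    exact ⟨by simpa using ha1.add hb1, by simpa using ha2.add hb2⟩
  · have : orderOf (g ^ a) ∣ p ^ k := by
      rw [orderOf_dvd_iff_pow_eq_one, ← pow_mul, ← orderOf_dvd_iff_pow_eq_one, hkm]
      exact mul_comm a _ ▸ Nat.mul_dvd_mul_left _ (Nat.modEq_zero_iff_dvd.mp ha2)
    obtain ⟨j, -, hj⟩ := (Nat.dvd_prime_pow hp.out).mp this
    exact ⟨j, hj⟩
  · have : orderOf (g ^ b) ∣ m := by
      rw [orderOf_dvd_iff_pow_eq_one, ← pow_mul, ← orderOf_dvd_iff_pow_eq_one, hkm]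
      exact Nat.mul_dvd_mul_right (Nat.modEq_zero_iff_dvd.mp hb1) _
    exact Nat.Coprime.coprime_dvd_left this ((Nat.Prime.coprime_iff_not_dvd hp.out).mpr hm).symm

omit [Finite G] hp in
theorem conj_mem_normalizer_iff {Q : Subgroup G} {g x : G} :
    x ∈ Subgroup.normalizer ((Q.map (MulAut.conj g).toMonoidHom : Subgroup G) : Set G) ↔
      g⁻¹ * x * g ∈ Subgroup.normalizer (Q : Set G) := by
  rw [← Subgroup.map_equiv_normalizer_eq, mem_map_equiv]
  simp

/-- Elements of order prime to `p` normalising a `p`-subgroup centralise it. -/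
def PrimeToPCentralizes (p : ℕ) (G : Type*) [Group G] : Prop :=
  ∀ Q : Subgroup G, IsPGroup p Q → ∀ g ∈ Subgroup.normalizer (Q : Set G), (orderOf g).Coprime p →
    g ∈ centralizer (Q : Set G)

theorem primeToPCentralizes_of_sylow (P : Sylow p G)
    (h : ∀ Q : Subgroup G, Q ≤ (P : Subgroup G) → ∀ g ∈ Subgroup.normalizer (Q : Set G),
      (orderOf g).Coprime p → g ∈ centralizer (Q : Set G)) : PrimeToPCentralizes p G := by
  intro Q hQ g hg hgo
  obtain ⟨S, hS⟩ := hQ.exists_le_sylow
  obtain ⟨w, rfl⟩ := MulAction.exists_smul_eq G P S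
  have hle : Q.map (MulAut.conj w⁻¹).toMonoidHom ≤ (P : Subgroup G) := by
    rintro _ ⟨x, hx, rfl⟩
    have := hS hx
    rw [Sylow.coe_subgroup_smul, Subgroup.mem_pointwise_smul_iff_inv_smul_mem] at this
    simpa [MulAut.smul_def] using this
  have h1 := h _ hle (w⁻¹ * g * w) (conj_mem_normalizer_iff.mpr (by
    simpa [mul_assoc] using hg)) (by
      rw [show w⁻¹ * g * w = MulAut.conj w⁻¹ g by simp, MulEquiv.orderOf_eq]; exact hgo)
  rw [mem_centralizer_iff] at h1 ⊢
  intro x hx
  have h2 := h1 (w⁻¹ * x * w) ⟨x, hx, by simp⟩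
  have h3 : w⁻¹ * (x * g) * w = w⁻¹ * (g * x) * w := by
    calc w⁻¹ * (x * g) * w = (w⁻¹ * x * w) * (w⁻¹ * g * w) := by group
      _ = (w⁻¹ * g * w) * (w⁻¹ * x * w) := h2
      _ = _ := by group
  simpa using h3

omit [Finite G] hp in
theorem centralizer_subgroupOf_normal (Q : Subgroup G) :
    ((centralizer (Q : Set G)).subgroupOf (Subgroup.normalizer (Q : Set G))).Normal := by
  constructor
  intro c hc g
  rw [mem_subgroupOf, mem_centralizer_iff] at hc ⊢
  intro x hx
  have hx' : (g : G)⁻¹ * x * g ∈ Q := by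
    simpa using (Subgroup.mem_normalizer_iff.mp (inv_mem g.2) x).mp hx
  have h := hc _ hx'
  simp only [Subgroup.coe_mul, Subgroup.coe_inv]
  calc x * ((g : G) * c * (g : G)⁻¹) = (g : G) * (((g : G)⁻¹ * x * g) * c) * (g : G)⁻¹ := by group
    _ = (g : G) * (c * ((g : G)⁻¹ * x * g)) * (g : G)⁻¹ := by rw [h]
    _ = (g : G) * c * (g : G)⁻¹ * x := by group

/-- Fusion is controlled by a Sylow subgroup up to centralisers. -/
theorem fusion_control (hyp : PrimeToPCentralizes p G) (P : Sylow p G) (A : Subgroup G) (g : G)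
    (hA : A ≤ P) (hgA : ∀ x ∈ A, g * x * g⁻¹ ∈ (P : Subgroup G)) :
    ∃ h ∈ (P : Subgroup G), ∃ c ∈ centralizer (A : Set G), g = h * c := by
  obtain ⟨d, hd⟩ : ∃ d, d = Nat.card (P : Subgroup G) - Nat.card A := ⟨_, rfl⟩
  induction d using Nat.strong_induction_on generalizing A g with
  | _ d ih =>
  rcases eq_or_lt_of_le hA with rfl | hlt
  · -- `g` normalises `P`
    have hN : g ∈ Subgroup.normalizer ((P : Subgroup G) : Set G) := by
      rw [Subgroup.mem_normalizer_iff_conj_image_eq]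
      refine Set.eq_of_subset_of_ncard_le ?_ ?_ (Set.toFinite _)
      · rintro _ ⟨x, hx, rfl⟩
        exact hgA x hx
      · rw [Set.ncard_image_of_injective _ (MulAut.conj g).injective]
    obtain ⟨a, b, hab, ⟨k, hk⟩, hb⟩ := exists_pPart_decomp (p := p) g
    refine ⟨g ^ a, ?_, g ^ b, hyp _ P.isPGroup' _ (pow_mem hN b) hb, hab.symm⟩
    have hQ : IsPGroup p (zpowers (g ^ a)) :=
      IsPGroup.of_card (n := k) (by rw [Nat.card_zpowers, hk])
    have := (hQ.to_sup_of_normal_right' P.isPGroup'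
      (zpowers_le.mpr (pow_mem hN a)))
    have h2 := P.is_maximal' this le_sup_right
    exact h2 ▸ mem_sup_left (mem_zpowers _)
  · set B : Subgroup G := A.map (MulAut.conj g).toMonoidHom with hB
    have hBP : B ≤ P := by rintro _ ⟨x, hx, rfl⟩; exact hgA x hx
    have hBA : Nat.card B = Nat.card A := card_map_of_injective (MulAut.conj g).injective
    have hBlt : B < (P : Subgroup G) :=
      lt_of_le_of_ne hBP (fun h => by
        have h2 := Set.ncard_lt_ncard (show (A : Set G) ⊂ ((P : Subgroup G) : Set G) from hlt)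
          (Set.toFinite _)
        rw [← Nat.card_coe_set_eq, ← Nat.card_coe_set_eq] at h2
        have : Nat.card (P : Subgroup G) = Nat.card A := h ▸ hBA
        exact absurd this (ne_of_gt h2))
    have hnil : Group.IsNilpotent (P : Subgroup G) := P.isPGroup'.isNilpotent
    have grow : ∀ X : Subgroup G, X < (P : Subgroup G) → X < Subgroup.normalizer (X : Set G) ⊓ P := by
      intro X hX
      have h1 : X.subgroupOf P < ⊤ := by
        rw [lt_top_iff_ne_top, Ne, subgroupOf_eq_top]
        exact not_le_of_gt hX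
      have h2 := Group.normalizerCondition_of_isNilpotent _ h1
      rw [← Subgroup.subgroupOf_normalizer_eq hX.le, SetLike.lt_iff_le_and_exists] at h2
      obtain ⟨x, hx1, hx2⟩ := h2.2
      refine lt_of_le_of_ne (le_inf le_normalizer hX.le) (fun he => hx2 ?_)
      rw [mem_subgroupOf] at hx1 ⊢
      exact he ▸ ⟨hx1, x.2⟩
    set NA := Subgroup.normalizer (A : Set G) ⊓ (P : Subgroup G)
    set NB := Subgroup.normalizer (B : Set G) ⊓ (P : Subgroup G)
    set M := Subgroup.normalizer (B : Set G)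
    set C := centralizer (B : Set G)
    have hBp : IsPGroup p B := (P.isPGroup').to_le hBP
    -- a Sylow `p`-subgroup of `M` containing `NB` supplements `C`
    obtain ⟨S, hS⟩ := ((P.isPGroup'.to_le inf_le_right : IsPGroup p NB).comap_of_injective M.subtype
      M.subtype_injective).exists_le_sylow
    have hCn : (C.subgroupOf M).Normal := centralizer_subgroupOf_normal B
    have hquot : IsPGroup p (M ⧸ C.subgroupOf M) := by
      intro x
      obtain ⟨m, rfl⟩ := QuotientGroup.mk_surjective x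
      obtain ⟨a, b, hab, ⟨k, hk⟩, hb⟩ := exists_pPart_decomp (p := p) m
      have hb' : m ^ b ∈ C.subgroupOf M := by
        rw [mem_subgroupOf]
        exact hyp _ hBp _ (m ^ b).2 (by rwa [orderOf_coe])
      refine ⟨k, ?_⟩
      rw [← hab, QuotientGroup.mk_mul, (QuotientGroup.eq_one_iff _).mpr hb', mul_one,
        ← QuotientGroup.mk_pow, ← hk, pow_orderOf_eq_one, QuotientGroup.mk_one]
    have hsup : C.subgroupOf M ⊔ (S : Subgroup M) = ⊤ := by
      obtain ⟨n, hn⟩ := hquot.exists_card_eq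
      rw [← index_eq_one]
      have h1 : (C.subgroupOf M ⊔ (S : Subgroup M)).index ∣ p ^ n := by
        rw [← hn, ← index_eq_card]
        exact index_dvd_of_le le_sup_left
      obtain ⟨l, -, hl⟩ := (Nat.dvd_prime_pow hp.out).mp h1
      rcases Nat.eq_zero_or_pos l with rfl | hl0
      · simpa using hl
      · exact absurd ((dvd_pow_self p (by omega : l ≠ 0)).trans
          (hl ▸ index_dvd_of_le (le_sup_right : (S : Subgroup M) ≤ _))) S.not_dvd_index
    -- the conjugate of `NA` lies in a `C`-conjugate of `S`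
    set T : Subgroup G := NA.map (MulAut.conj g).toMonoidHom with hT
    have hTM : T ≤ M := by
      rintro _ ⟨x, hx, rfl⟩
      change _ ∈ Subgroup.normalizer ((A.map (MulAut.conj g).toMonoidHom : Subgroup G) : Set G)
      rw [conj_mem_normalizer_iff]
      simpa [mul_assoc] using hx.1
    have hTp : IsPGroup p T := (P.isPGroup'.to_le inf_le_right).map _
    obtain ⟨S', hS'⟩ := (hTp.comap_of_injective M.subtype M.subtype_injective).exists_le_sylow
    obtain ⟨m, rfl⟩ := MulAction.exists_smul_eq M S S'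
    obtain ⟨c, hc, s, hs, rfl⟩ := (mem_sup_of_normal_left).mp (hsup ▸ mem_top m)
    have hcT : ∀ x : G, x ∈ T → ∃ y ∈ (S : Subgroup M), ((y : M) : G) = (c : G)⁻¹ * x * c := by
      intro x hx
      have hx' : (⟨x, hTM hx⟩ : M) ∈ (((c * s) • S : Sylow p M) : Subgroup M) := hS' hx
      rw [Sylow.coe_subgroup_smul, Subgroup.mem_pointwise_smul_iff_inv_smul_mem] at hx'
      simp only [MulAut.smul_def, MulAut.inv_def, MulAut.conj_symm_apply] at hx'
      refine ⟨c⁻¹ * ⟨x, hTM hx⟩ * c, ?_, by simp⟩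
      have := mul_mem (mul_mem hs hx') (inv_mem hs)
      convert this using 1
      group
    obtain ⟨R, hR⟩ := (S.isPGroup'.map M.subtype).exists_le_sylow
    obtain ⟨w, rfl⟩ := MulAction.exists_smul_eq G P R
    have hw : ∀ y ∈ (S : Subgroup M), w⁻¹ * (y : G) * w ∈ (P : Subgroup G) := by
      intro y hy
      have := hR (mem_map_of_mem M.subtype hy)
      rw [Sylow.coe_subgroup_smul, Subgroup.mem_pointwise_smul_iff_inv_smul_mem] at this
      simpa [MulAut.smul_def] using this
    have hcardA : Nat.card A < Nat.card NA :=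
      Set.ncard_lt_ncard (grow A hlt) (Set.toFinite _)
    have hcardB : Nat.card B < Nat.card NB :=
      Set.ncard_lt_ncard (grow B hBlt) (Set.toFinite _)
    have hAleP : Nat.card NA ≤ Nat.card (P : Subgroup G) := card_le_of_le inf_le_right
    have hBleP : Nat.card NB ≤ Nat.card (P : Subgroup G) := card_le_of_le inf_le_right
    obtain ⟨h₁, hh₁, c₁, hc₁, e₁⟩ := ih _ (by omega) NB w⁻¹ inf_le_right (fun x hx => by
      rw [inv_inv]
      exact hw ⟨x, hx.1⟩ (hS hx)) rfl
    obtain ⟨h₂, hh₂, c₂, hc₂, e₂⟩ := ih _ (by omega) NA (w⁻¹ * (c : G)⁻¹ * g) inf_le_right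
      (fun x hx => by
        obtain ⟨y, hy, hy'⟩ := hcT (g * x * g⁻¹) ⟨x, hx, rfl⟩
        have := hw y hy
        rw [hy'] at this
        convert this using 1
        group) rfl
    have hc' : (c : G) ∈ C := by simpa [mem_subgroupOf] using hc
    have hc₁' : c₁ ∈ C := centralizer_le (le_inf le_normalizer hBP : B ≤ NB) hc₁
    have hc₂' : c₂ ∈ centralizer (A : Set G) :=
      centralizer_le (le_inf le_normalizer hA : A ≤ NA) hc₂
    set k := (c : G) * c₁⁻¹ with hk
    set h := h₁⁻¹ * h₂ with hh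
    have hg : g = k * h * c₂ := by
      have e : w = c₁⁻¹ * h₁⁻¹ := by rw [← inv_inv w, e₁, mul_inv_rev]
      calc g = c * w * (w⁻¹ * (c : G)⁻¹ * g) := by group
        _ = c * w * (h₂ * c₂) := by rw [e₂]
        _ = _ := by rw [hk, hh, e]; group
    refine ⟨h, mul_mem (inv_mem hh₁) hh₂, h⁻¹ * k * h * c₂, ?_, by rw [hg]; group⟩
    refine mul_mem ?_ hc₂'
    rw [mem_centralizer_iff]
    intro x hx
    have hkC : k ∈ C := mul_mem hc' (inv_mem hc₁')
    have h1 := mem_centralizer_iff.mp hkC _ (mem_map_of_mem (MulAut.conj g).toMonoidHom hx)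
    have h2 := mem_centralizer_iff.mp hc₂' x hx
    simp only [MulEquiv.coe_toMonoidHom, MulAut.conj_apply] at h1
    rw [hg] at h1
    have hcx : c₂ * x * c₂⁻¹ = x := by rw [← h2, mul_inv_cancel_right]
    have h1a : k * h * c₂ * x * (k * h * c₂)⁻¹ = k * h * x * h⁻¹ * k⁻¹ := by
      calc _ = k * h * (c₂ * x * c₂⁻¹) * h⁻¹ * k⁻¹ := by group
        _ = _ := by rw [hcx]
    rw [h1a] at h1
    have h3 : h * x * h⁻¹ * k = k * (h * x * h⁻¹) := by
      calc h * x * h⁻¹ * k = k⁻¹ * ((k * h * x * h⁻¹ * k⁻¹) * k) * k := by group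
        _ = k⁻¹ * (k * (k * h * x * h⁻¹ * k⁻¹)) * k := by rw [h1]
        _ = _ := by group
    calc x * (h⁻¹ * k * h) = h⁻¹ * (h * x * h⁻¹ * k) * h := by group
      _ = h⁻¹ * (k * (h * x * h⁻¹)) * h := by rw [h3]
      _ = _ := by group

theorem sylow_subgroupOf_card (P : Sylow p G) (K : Subgroup G) [K.Normal] :
    ∃ S : Sylow p K, (S : Subgroup K) = (P : Subgroup G).subgroupOf K := by
  refine ⟨IsPGroup.toSylow (P.isPGroup'.comap_of_injective K.subtype K.subtype_injective) ?_, rfl⟩
  intro h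
  refine P.not_dvd_index (h.trans ?_)
  rw [show ((P : Subgroup G).comap K.subtype).index = (P : Subgroup G).relIndex K from rfl]
  obtain ⟨t, ht⟩ := relIndex_dvd_index_of_normal K (P : Subgroup G)
  have h1 := relIndex_mul_index (inf_le_left : (P : Subgroup G) ⊓ K ≤ (P : Subgroup G))
  have h2 := relIndex_mul_index (inf_le_right : (P : Subgroup G) ⊓ K ≤ K)
  rw [inf_relIndex_left] at h1
  rw [inf_relIndex_right, ← h1, ht, mul_left_comm] at h2
  have h3 := Nat.eq_of_mul_eq_mul_left (Nat.pos_of_ne_zero ((K.subgroupOf P).index_ne_zero_of_finite)) h2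
  exact ⟨t, h3.symm⟩

omit [Finite G] in
theorem mem_of_coprime_of_isPGroup_quotient {N : Subgroup G} [N.Normal] (hN : IsPGroup p (G ⧸ N))
    {x : G} (hx : (orderOf x).Coprime p) : x ∈ N := by
  obtain ⟨k, hk⟩ := hN.exists_orderOf_eq_pow (x : G ⧸ N)
  have h1 : orderOf (x : G ⧸ N) ∣ orderOf x := orderOf_map_dvd (QuotientGroup.mk' N) x
  rw [hk] at h1
  rw [← QuotientGroup.eq_one_iff, ← orderOf_eq_one_iff, hk]
  exact (Nat.Coprime.pow_left k (Nat.coprime_comm.mp hx)).eq_one_of_dvd h1

/-- **Frobenius**: if elements of order prime to `p` centralise all the `p`-subgroups they normalise, then `G` has a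
normal `p`-complement. -/
theorem exists_normal_complement {G : Type u} [Group G] [Finite G] (hyp : PrimeToPCentralizes p G)
    (P : Sylow p G) : ∃ N : Subgroup G, N.Normal ∧ N.IsComplement' (P : Subgroup G) := by
  obtain ⟨d, hd⟩ : ∃ d, d = Nat.card G := ⟨_, rfl⟩
  induction d using Nat.strong_induction_on generalizing G with
  | _ d ih =>
  by_cases hP : (P : Subgroup G) = ⊥
  · exact ⟨⊤, inferInstance, by rw [hP]; exact isComplement'_top_bot⟩
  have hfoc : Subgroup.focalSubgroup (P : Subgroup G) ≤ ⁅(P : Subgroup G), (P : Subgroup G)⁆ := by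
    rw [Subgroup.focalSubgroup_def, Subgroup.closure_le]
    rintro _ ⟨hzP, x, hx, u, rfl⟩
    have hconj : u * x⁻¹ * u⁻¹ ∈ (P : Subgroup G) := by
      have := mul_mem (inv_mem hx) hzP
      rw [commutatorElement_def] at this
      convert this using 1
      group
    obtain ⟨h, hh, c, hc, rfl⟩ := fusion_control hyp P (zpowers x⁻¹) u
      (zpowers_le.mpr (inv_mem hx)) (fun y hy => by
        obtain ⟨n, rfl⟩ := mem_zpowers_iff.mp hy
        rw [← conj_zpow]
        exact zpow_mem hconj n)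
    have hcx := mem_centralizer_iff.mp hc x⁻¹ (mem_zpowers _)
    have e : ⁅x, h * c⁆ = ⁅x, h⁆ := by
      rw [commutatorElement_def, commutatorElement_def]
      calc x * (h * c) * x⁻¹ * (h * c)⁻¹ = x * h * (c * x⁻¹) * c⁻¹ * h⁻¹ := by group
        _ = x * h * (x⁻¹ * c) * c⁻¹ * h⁻¹ := by rw [hcx]
        _ = _ := by group
    rw [SetLike.mem_coe, e]
    exact commutator_mem_commutator hx hh
  set K := (Subgroup.transferFocal (P : Subgroup G)).ker
  have hKP : K ⊓ (P : Subgroup G) = Subgroup.focalSubgroup (P : Subgroup G) :=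
    Subgroup.ker_transferFocal_inf_eq_focalSubgroup P
  have hquot : IsPGroup p (G ⧸ K) :=
    (P.isPGroup'.to_quotient _).of_equiv
      (Subgroup.transferFocal.quotientKerMulEquivQuotientFocalSubroupOf P).symm
  have hKlt : Nat.card K < Nat.card G := by
    refine lt_of_le_of_ne (card_le_card_group K) (fun h => ?_)
    have htop : K = ⊤ := eq_top_of_card_eq K h
    have h1 : (P : Subgroup G) ≤ ⁅(P : Subgroup G), (P : Subgroup G)⁆ :=
      (inf_eq_right.mpr (htop ▸ le_top : (P : Subgroup G) ≤ K)).ge.trans (hKP.le.trans hfoc)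
    have hnil : Group.IsNilpotent (P : Subgroup G) := P.isPGroup'.isNilpotent
    have hsol : _root_.commutator (P : Subgroup G) ≠ ⊤ := by
      have : Nontrivial (P : Subgroup G) := (nontrivial_iff_ne_bot _).mpr hP
      exact (Group.IsSolvable.commutator_lt_top_of_nontrivial _).ne
    apply hsol
    apply map_injective (P : Subgroup G).subtype_injective
    rw [map_subtype_commutator, ← MonoidHom.range_eq_map, range_subtype]
    exact le_antisymm (commutator_le_self _) h1
  obtain ⟨S, hS⟩ := sylow_subgroupOf_card P K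
  have hypK : PrimeToPCentralizes p K := by
    intro Q hQ g hg hgo
    have h1 := hyp (Q.map K.subtype) (hQ.map _) (g : G) ?_ (by rwa [orderOf_coe])
    · rw [mem_centralizer_iff] at h1 ⊢
      intro x hx
      exact Subtype.ext (h1 x (mem_map_of_mem K.subtype hx))
    · exact le_normalizer_map K.subtype (mem_map_of_mem _ hg)
  obtain ⟨N, hN, hNc⟩ := ih _ (hd ▸ hKlt) (G := K) hypK S rfl
  have hNcop : (Nat.card N).Coprime p := by
    rw [Nat.coprime_comm, hp.out.coprime_iff_not_dvd, ← hNc.index_eq_card]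
    exact S.not_dvd_index
  have hNq : IsPGroup p (K ⧸ N) := by
    obtain ⟨n, hn⟩ := S.isPGroup'.exists_card_eq
    refine IsPGroup.of_card (n := n) ?_
    rw [← index_eq_card, hNc.symm.index_eq_card, hn]
  have hNn : (N.map K.subtype).Normal := by
    constructor
    rintro _ ⟨x, hx, rfl⟩ g
    refine ⟨⟨g * x * g⁻¹, Subgroup.Normal.conj_mem inferInstance x.1 x.2 g⟩, ?_, rfl⟩
    refine mem_of_coprime_of_isPGroup_quotient hNq ?_
    rw [← orderOf_coe]
    change (orderOf (MulAut.conj g (x : G))).Coprime p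
    rw [MulEquiv.orderOf_eq, orderOf_coe]
    exact Nat.Coprime.coprime_dvd_left (orderOf_dvd_natCard N hx) hNcop
  refine ⟨N.map K.subtype, hNn, isComplement'_of_coprime ?_ ?_⟩
  · rw [card_map_of_injective K.subtype_injective]
    obtain ⟨n, hn⟩ := hquot.exists_card_eq
    obtain ⟨m, hm⟩ := P.isPGroup'.exists_card_eq
    have hi : (N.map K.subtype).index = p ^ (n + Nat.log p (Nat.card S)) := by
      obtain ⟨l, hl⟩ := S.isPGroup'.exists_card_eq
      rw [index_map_subtype, index_eq_card K, hn, hNc.symm.index_eq_card, hl, Nat.log_pow hp.out.one_lt,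
        pow_add, mul_comm]
    have h1 := (N.map K.subtype).card_mul_index
    rw [card_map_of_injective K.subtype_injective, hi] at h1
    have h2 := (P : Subgroup G).card_mul_index
    have e : p ^ (n + Nat.log p (Nat.card S)) = Nat.card (P : Subgroup G) := by
      rw [P.card_eq_multiplicity, ← h1, Nat.factorization_mul Nat.card_pos.ne'
        (pow_ne_zero _ hp.out.ne_zero), Finsupp.add_apply,
        Nat.factorization_eq_zero_of_not_dvd ((Nat.Prime.coprime_iff_not_dvd hp.out).mp hNcop.symm),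
        zero_add, Nat.Prime.factorization_pow hp.out, Finsupp.single_eq_same]
    rw [← e]
    exact h1
  · rw [card_map_of_injective K.subtype_injective]
    obtain ⟨m, hm⟩ := P.isPGroup'.exists_card_eq
    rw [hm]
    exact Nat.Coprime.pow_right _ hNcop

/-- Burnside's fusion lemma for an abelian Sylow subgroup. -/
theorem exists_normalizer_conj (P : Sylow p G) (hP : IsMulCommutative (P : Subgroup G)) {x g : G}
    (hx : x ∈ (P : Subgroup G)) (hgx : g * x * g⁻¹ ∈ (P : Subgroup G)) :
    ∃ n ∈ Subgroup.normalizer ((P : Subgroup G) : Set G), n * x * n⁻¹ = g * x * g⁻¹ := by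
  set y := g * x * g⁻¹
  set C := centralizer ({y} : Set G)
  have hPC : (P : Subgroup G) ≤ C := fun z hz => mem_centralizer_iff.mpr fun w hw => by
    rw [Set.mem_singleton_iff] at hw
    subst hw
    exact congrArg Subtype.val (hP.is_comm.comm ⟨y, hgx⟩ ⟨z, hz⟩)
  have hQC : ((g • P : Sylow p G) : Subgroup G) ≤ C := fun z hz => mem_centralizer_iff.mpr fun w hw => by
    rw [Set.mem_singleton_iff] at hw
    subst hw
    rw [Sylow.coe_subgroup_smul, Subgroup.mem_pointwise_smul_iff_inv_smul_mem] at hz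
    simp only [MulAut.smul_def, MulAut.inv_def, MulAut.conj_symm_apply] at hz
    have h := congrArg Subtype.val (hP.is_comm.comm ⟨x, hx⟩ ⟨_, hz⟩)
    simp only [Subgroup.coe_mul] at h
    calc y * z = g * (x * (g⁻¹ * z * g)) * g⁻¹ := by simp only [y]; group
      _ = g * ((g⁻¹ * z * g) * x) * g⁻¹ := by rw [h]
      _ = z * y := by simp only [y]; group
  obtain ⟨c, hc⟩ := MulAction.exists_smul_eq C ((g • P).subtype hQC) (P.subtype hPC)
  rw [Sylow.smul_subtype] at hc
  have hc' := Sylow.subtype_injective hc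
  change (c : G) • g • P = P at hc'
  rw [← mul_smul, Sylow.smul_eq_iff_mem_normalizer] at hc'
  refine ⟨(c : G) * g, hc', ?_⟩
  have h := mem_centralizer_iff.mp c.2 y rfl
  calc (c : G) * g * x * ((c : G) * g)⁻¹ = (c : G) * y * (c : G)⁻¹ := by simp only [y]; group
    _ = y := by rw [← h, mul_inv_cancel_right]

/-- Without a normal `p`-complement, some element of order prime to `p` acts nontrivially on a subgroup of `P`
containing the centre of `P`. -/
theorem exists_nontrivial_action (P : Sylow p G)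
    (h : ¬ ∃ N : Subgroup G, N.Normal ∧ N.IsComplement' (P : Subgroup G)) :
    ∃ Q : Subgroup G, Q ≤ (P : Subgroup G) ∧
      (∀ z ∈ (P : Subgroup G), (∀ x ∈ (P : Subgroup G), z * x = x * z) → z ∈ Q) ∧
      ∃ g ∈ Subgroup.normalizer (Q : Set G), (orderOf g).Coprime p ∧ g ∉ centralizer (Q : Set G) := by
  have h1 : ¬ PrimeToPCentralizes p G := fun hyp => h (exists_normal_complement hyp P)
  simp only [PrimeToPCentralizes, not_forall] at h1
  obtain ⟨Q₀, hQ₀, g₀, hg₀, hgo, hgc⟩ := h1
  set M := Subgroup.normalizer (Q₀ : Set G)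
  -- a Sylow subgroup of the normaliser, moved into `P`
  obtain ⟨S, hS⟩ := (hQ₀.comap_of_injective M.subtype M.subtype_injective).exists_le_sylow
  have hCn : ((centralizer (Q₀ : Set G)).subgroupOf M).Normal := centralizer_subgroupOf_normal Q₀
  set C := (centralizer (Q₀ : Set G)).subgroupOf M with hC
  obtain ⟨D, hD⟩ := sylow_subgroupOf_card S C
  set D' : Subgroup M := (D : Subgroup C).map C.subtype with hD'
  have hD'mem : ∀ x : M, x ∈ D' ↔ x ∈ (S : Subgroup M) ∧ x ∈ C := by
    intro x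
    rw [hD', hD, subgroupOf_map_subtype, mem_inf]
  have hfrat : Subgroup.normalizer (D' : Set M) ⊔ C = ⊤ := Sylow.normalizer_sup_eq_top D
  obtain ⟨n, hn, c, hc, hnc⟩ := (mem_sup_of_normal_right).mp (hfrat ▸ mem_top (⟨g₀, hg₀⟩ : M))
  obtain ⟨a, b, hab, ⟨k, hk⟩, hb⟩ := exists_pPart_decomp (p := p) n
  have hnb : n ^ b ∉ C := by
    intro hnb
    apply hgc
    have h1 : ((⟨g₀, hg₀⟩ : M) : M ⧸ C) = ((n ^ a : M) : M ⧸ C) := by
      rw [← hnc, QuotientGroup.mk_mul, (QuotientGroup.eq_one_iff c).mpr hc, mul_one]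
      conv_lhs => rw [← hab]
      rw [QuotientGroup.mk_mul, (QuotientGroup.eq_one_iff _).mpr hnb, mul_one]
    have h2 : orderOf ((⟨g₀, hg₀⟩ : M) : M ⧸ C) ∣ orderOf g₀ := by
      rw [← orderOf_mk g₀ hg₀]
      exact orderOf_map_dvd (QuotientGroup.mk' C) _
    have h3 : orderOf ((⟨g₀, hg₀⟩ : M) : M ⧸ C) ∣ p ^ k := by
      rw [h1, ← hk]
      exact orderOf_map_dvd (QuotientGroup.mk' C) _
    have h4 := Nat.dvd_gcd h2 h3
    rw [Nat.Coprime.pow_right k hgo] at h4
    rw [Nat.dvd_one, orderOf_eq_one_iff, QuotientGroup.eq_one_iff, hC, mem_subgroupOf] at h4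
    exact h4
  obtain ⟨R, hR⟩ := (S.isPGroup'.map M.subtype).exists_le_sylow
  obtain ⟨w, rfl⟩ := MulAction.exists_smul_eq G P R
  have hmemR : ∀ x : G, x ∈ ((w • P : Sylow p G) : Subgroup G) ↔ w⁻¹ * x * w ∈ (P : Subgroup G) := by
    intro x
    rw [Sylow.coe_subgroup_smul, Subgroup.mem_pointwise_smul_iff_inv_smul_mem]
    simp [MulAut.smul_def]
  have hSR : ∀ x : M, (x : G) ∈ ((w • P : Sylow p G) : Subgroup G) → x ∈ (S : Subgroup M) := by
    intro x hx
    have h1 : ((w • P : Sylow p G) : Subgroup G).comap M.subtype = (S : Subgroup M) :=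
      S.is_maximal' ((w • P).isPGroup'.comap_of_injective M.subtype M.subtype_injective)
        (fun y hy => hR (mem_map_of_mem M.subtype hy))
    exact h1 ▸ hx
  set Q₁ : Subgroup G := Q₀ ⊔ D'.map M.subtype with hQ₁
  have hQ₀R : Q₀ ≤ ((w • P : Sylow p G) : Subgroup G) := fun x hx =>
    hR ⟨⟨x, le_normalizer hx⟩, hS (show (⟨x, le_normalizer hx⟩ : M) ∈ Q₀.comap M.subtype from hx), rfl⟩
  have hQ₁R : Q₁ ≤ ((w • P : Sylow p G) : Subgroup G) := by
    refine sup_le hQ₀R ?_
    rintro _ ⟨x, hx, rfl⟩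
    exact hR (mem_map_of_mem M.subtype ((hD'mem x).mp hx).1)
  refine ⟨Q₁.map (MulAut.conj w⁻¹).toMonoidHom, ?_, ?_, w⁻¹ * (n ^ b : M) * w, ?_, ?_, ?_⟩
  · rintro _ ⟨x, hx, rfl⟩
    simpa using (hmemR x).mp (hQ₁R hx)
  · intro z hz hzc
    refine ⟨w * z * w⁻¹, ?_, by simp; group⟩
    have hzR : w * z * w⁻¹ ∈ ((w • P : Sylow p G) : Subgroup G) := by
      rw [hmemR]; simpa [mul_assoc] using hz
    have hzC : w * z * w⁻¹ ∈ centralizer (Q₀ : Set G) := by
      rw [mem_centralizer_iff]
      intro x hx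
      have h1 := hzc _ ((hmemR x).mp (hQ₀R hx))
      calc x * (w * z * w⁻¹) = w * ((w⁻¹ * x * w) * z) * w⁻¹ := by group
        _ = w * (z * (w⁻¹ * x * w)) * w⁻¹ := by rw [h1]
        _ = _ := by group
    have hzM : w * z * w⁻¹ ∈ M := centralizer_le_normalizer _ hzC
    refine mem_sup_right ⟨⟨_, hzM⟩, (hD'mem _).mpr ⟨hSR _ hzR, hzC⟩, rfl⟩
  · rw [conj_mem_normalizer_iff]
    have h1 : ((n ^ b : M) : G) ∈ Subgroup.normalizer (Q₁ : Set G) := by
      refine (Subgroup.mem_normalizer_iff_conj_image_eq).mpr ?_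
      have e1 : Q₀.map (MulAut.conj ((n ^ b : M) : G)).toMonoidHom = Q₀ :=
        SetLike.coe_injective (Subgroup.mem_normalizer_iff_conj_image_eq.mp (n ^ b : M).2)
      have h2 : (n ^ b : M) ∈ Subgroup.normalizer (D' : Set M) := pow_mem hn b
      have h3 : ((n ^ b : M) : G) ∈ Subgroup.normalizer ((D'.map M.subtype : Subgroup G) : Set G) :=
        le_normalizer_map M.subtype (mem_map_of_mem _ h2)
      have e2 : (D'.map M.subtype).map (MulAut.conj ((n ^ b : M) : G)).toMonoidHom = D'.map M.subtype :=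
        SetLike.coe_injective (Subgroup.mem_normalizer_iff_conj_image_eq.mp h3)
      have e3 : Q₁.map (MulAut.conj ((n ^ b : M) : G)).toMonoidHom = Q₁ := by
        rw [hQ₁, Subgroup.map_sup, e1, e2]
      exact congrArg (fun K : Subgroup G => (K : Set G)) e3
    simpa [mul_assoc] using h1
  · rw [show w⁻¹ * ((n ^ b : M) : G) * w = MulAut.conj w⁻¹ ((n ^ b : M) : G) by simp,
      MulEquiv.orderOf_eq, orderOf_coe]
    exact hb
  · intro hcon
    apply hnb
    rw [hC, mem_subgroupOf, mem_centralizer_iff]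
    intro x hx
    have h1 := mem_centralizer_iff.mp hcon _
      (mem_map_of_mem (MulAut.conj w⁻¹).toMonoidHom (mem_sup_left hx : x ∈ Q₁))
    simp only [MulEquiv.coe_toMonoidHom, MulAut.conj_apply, inv_inv] at h1
    have h2 : w⁻¹ * (x * ((n ^ b : M) : G)) * w = w⁻¹ * (((n ^ b : M) : G) * x) * w := by
      calc _ = w⁻¹ * x * w * (w⁻¹ * ((n ^ b : M) : G) * w) := by group
        _ = w⁻¹ * ((n ^ b : M) : G) * w * (w⁻¹ * x * w) := h1
        _ = _ := by group
    simpa using h2

end CfsgLib.PNilpotent
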