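import Mathlib
import Cfsg.Prelude.Def_Transfer
import Cfsg.Agent.Lib.PNilpotent.Basic

/-!
Numbers of classes of `p`-elements and of `π`-elements: bounds when there is no normal `p`-complement.
-/

namespace CfsgLib.PNilpotent

open Subgroup

variable {G : Type*} [Group G]

/-- The classes consisting of `p`-elements. -/
abbrev PClasses (p : ℕ) (G : Type*) [Group G] :=
  {c : ConjClasses G // ∀ x ∈ c.carrier, ∃ k : ℕ, orderOf x = p ^ k}

/-- The classes consisting of `π`-elements. -/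
abbrev PiClasses (π : Finset ℕ) (G : Type*) [Group G] :=
  {c : ConjClasses G // ∀ x ∈ c.carrier, ∀ r : ℕ, r.Prime → r ∣ orderOf x → r ∈ π}

theorem orderOf_eq_of_isConj {x y : G} (h : IsConj x y) : orderOf x = orderOf y := by
  obtain ⟨g, rfl⟩ := isConj_iff.mp h
  rw [← MulAut.conj_apply, MulEquiv.orderOf_eq]

theorem forall_carrier_iff {q : ℕ → Prop} {x : G} :
    (∀ y ∈ (ConjClasses.mk x).carrier, q (orderOf y)) ↔ q (orderOf x) := by
  refine ⟨fun h => h x ConjClasses.mem_carrier_mk, fun h y hy => ?_⟩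
  rw [ConjClasses.mem_carrier_iff_mk_eq, ConjClasses.mk_eq_mk_iff_isConj] at hy
  rwa [orderOf_eq_of_isConj hy]

/-- The class map from a `p`-subgroup. -/
def toPClass {p : ℕ} [Fact p.Prime] {P : Subgroup G} (hP : IsPGroup p P) (x : P) : PClasses p G :=
  ⟨ConjClasses.mk (x : G), (forall_carrier_iff (q := fun n => ∃ k, n = p ^ k)).mpr (by
    obtain ⟨k, hk⟩ := hP.exists_orderOf_eq_pow x
    exact ⟨k, by rw [orderOf_coe, hk]⟩)⟩

variable {p : ℕ} [hp : Fact p.Prime]

theorem toPClass_surjective [Finite G] (P : Sylow p G) :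
    Function.Surjective (toPClass P.isPGroup') := by
  rintro ⟨c, hc⟩
  obtain ⟨x, rfl⟩ := ConjClasses.mk_surjective c
  obtain ⟨k, hk⟩ := hc x ConjClasses.mem_carrier_mk
  obtain ⟨S, hS⟩ := (IsPGroup.of_card (n := k)
    (by rw [Nat.card_zpowers, hk]) : IsPGroup p (zpowers x)).exists_le_sylow
  obtain ⟨w, rfl⟩ := MulAction.exists_smul_eq G P S
  have := hS (mem_zpowers x)
  rw [Sylow.coe_subgroup_smul, Subgroup.mem_pointwise_smul_iff_inv_smul_mem] at this
  refine ⟨⟨_, this⟩, Subtype.ext ?_⟩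
  simp only [toPClass]
  rw [ConjClasses.mk_eq_mk_iff_isConj, isConj_iff]
  exact ⟨w, by simp [MulAut.smul_def, mul_assoc]⟩

theorem card_pClasses_le_card_conjClasses [Finite G] (P : Sylow p G) :
    Nat.card (PClasses p G) ≤ Nat.card (ConjClasses (P : Subgroup G)) := by
  have hwd : ∀ a b : (P : Subgroup G), IsConj a b → toPClass P.isPGroup' a = toPClass P.isPGroup' b := by
    intro a b h
    refine Subtype.ext ?_
    simp only [toPClass, ConjClasses.mk_eq_mk_iff_isConj]
    exact MonoidHom.map_isConj (P : Subgroup G).subtype h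
  refine Nat.card_le_card_of_surjective (Quotient.lift _ hwd) (fun c => ?_)
  obtain ⟨x, hx⟩ := toPClass_surjective P c
  exact ⟨ConjClasses.mk x, hx⟩

/-- If all fibres met by `S` have at least `m` points in `S`, the image of `S` is small. -/
theorem mul_ncard_image_le {α β : Type*} [Finite α] (f : α → β) (S : Set α) (m : ℕ)
    (h : ∀ a ∈ S, m ≤ (S ∩ f ⁻¹' {f a}).ncard) : m * (f '' S).ncard ≤ S.ncard := by
  classical
  have := Fintype.ofFinite α
  rw [Set.ncard_eq_toFinset_card' S, Set.ncard_eq_toFinset_card' (f '' S), Set.toFinset_image (f := f) (s := S)]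
  refine Finset.mul_card_image_le_card _ _ (fun b hb => ?_)
  obtain ⟨a, ha, rfl⟩ := Finset.mem_image.mp hb
  have h2 := h a (Set.mem_toFinset.mp ha)
  rw [Set.ncard_eq_toFinset_card'] at h2
  refine h2.trans (le_of_eq ?_)
  congr 1
  ext x
  simp

/-- The points in the orbit of conjugation by the powers of `g`. -/
theorem orbit_ncard_dvd [Finite G] {g x : G} :
    (MulAction.orbit (zpowers (ConjAct.toConjAct g)) x).ncard ∣ orderOf g := by
  rw [← MulAction.index_stabilizer, ← MulEquiv.orderOf_eq ConjAct.toConjAct g, ← Nat.card_zpowers]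
  exact index_dvd_card _

/-- A proper subgroup of a `p`-group has index at least `p`. -/
theorem mul_card_le_of_lt [Finite G] {F Q : Subgroup G} (hQ : IsPGroup p Q) (h : F < Q) :
    p * Nat.card F ≤ Nat.card Q ∧ (F.relIndex Q ≠ p → p * p * Nat.card F ≤ Nat.card Q) := by
  have h1 : Nat.card F * F.relIndex Q = Nat.card Q := by
    rw [← relIndex_bot_left F, ← relIndex_bot_left Q]
    exact relIndex_mul_relIndex _ _ _ bot_le h.le
  obtain ⟨n, hn⟩ := hQ.exists_card_eq
  obtain ⟨e, -, he⟩ := (Nat.dvd_prime_pow hp.out).mp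
    (hn ▸ relIndex_dvd_card (H := F) (K := Q) : F.relIndex Q ∣ p ^ n)
  have he0 : e ≠ 0 := by
    rintro rfl
    rw [pow_zero, relIndex_eq_one] at he
    exact not_le_of_gt h he
  refine ⟨?_, fun hne => ?_⟩
  · rw [← h1, he, mul_comm]
    exact Nat.mul_le_mul_left _ (Nat.le_self_pow he0 p)
  · have he2 : 2 ≤ e := by
      rcases Nat.lt_or_ge e 2 with h2 | h2
      · rw [show e = 1 by omega, pow_one] at he
        exact absurd he hne
      · exact h2
    rw [← h1, he, mul_comm]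
    exact Nat.mul_le_mul_left _ (by rw [← sq]; exact Nat.pow_le_pow_right hp.out.pos he2)

/-- An element of odd order acting on a `2`-group cannot fix exactly a subgroup of index `2`. -/
theorem relIndex_ne_two [Finite G] {Q : Subgroup G} (hQ : IsPGroup 2 Q) {g : G}
    (hg : g ∈ Subgroup.normalizer (Q : Set G)) (hgo : (orderOf g).Coprime 2)
    (hgC : g ∉ centralizer (Q : Set G)) : (Q ⊓ centralizer ({g} : Set G)).relIndex Q ≠ 2 := by
  intro h2
  set F := Q ⊓ centralizer ({g} : Set G) with hF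
  have hFQ : F ≤ Q := inf_le_left
  have hmemF : ∀ y ∈ F, g * y * g⁻¹ = y := fun y hy => by
    rw [mul_inv_eq_iff_eq_mul]
    exact mem_centralizer_iff.mp hy.2 g rfl
  apply hgC
  rw [mem_centralizer_iff]
  intro x hx
  by_cases hxF : x ∈ F
  · exact (mem_centralizer_iff.mp hxF.2 g rfl).symm
  have hgx : g * x * g⁻¹ ∈ Q := (Subgroup.mem_normalizer_iff.mp hg x).mp hx
  have hc : x⁻¹ * (g * x * g⁻¹) ∈ F := by
    have hidx : (F.subgroupOf Q).index = 2 := h2
    have h3 := Subgroup.mul_mem_iff_of_index_two hidx (a := ⟨x⁻¹, inv_mem hx⟩) (b := ⟨_, hgx⟩)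
    have h4 : g * x * g⁻¹ ∉ F := fun h4 => hxF (by
      have h5 : g * x * g⁻¹ = x :=
        (MulAut.conj g).injective (by simpa [MulAut.conj_apply] using hmemF _ h4)
      rwa [h5] at h4)
    simp only [mem_subgroupOf, MulMemClass.coe_mul, inv_mem_iff] at h3
    exact h3.mpr ⟨fun h => absurd h hxF, fun h => absurd h h4⟩
  set c := x⁻¹ * (g * x * g⁻¹) with hcdef
  have hiter : ∀ k : ℕ, g ^ k * x * (g ^ k)⁻¹ = x * c ^ k := by
    intro k
    induction k with
    | zero => simp
    | succ k ih =>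
      calc g ^ (k + 1) * x * (g ^ (k + 1))⁻¹ = g * (g ^ k * x * (g ^ k)⁻¹) * g⁻¹ := by
            rw [pow_succ']; group
        _ = (g * x * g⁻¹) * (g * c ^ k * g⁻¹) := by rw [ih]; group
        _ = x * c * c ^ k := by rw [hmemF _ (pow_mem hc k), hcdef]; group
        _ = x * c ^ (k + 1) := by rw [pow_succ', mul_assoc]
  have h5 := hiter (orderOf g)
  rw [pow_orderOf_eq_one, one_mul, inv_one, mul_one, left_eq_mul] at h5
  obtain ⟨k, hk⟩ := hQ.exists_orderOf_eq_pow ⟨c, hFQ hc⟩
  rw [orderOf_mk] at hk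
  have h6 : orderOf c ∣ Nat.gcd (2 ^ k) (orderOf g) :=
    Nat.dvd_gcd hk.dvd (orderOf_dvd_of_pow_eq_one h5)
  rw [Nat.Coprime.pow_left k hgo.symm] at h6
  have hc1 : c = 1 := orderOf_eq_one_iff.mp (Nat.dvd_one.mp h6)
  rw [hcdef, inv_mul_eq_one] at hc1
  exact eq_mul_inv_iff_mul_eq.mp hc1

/-- The fundamental bound. -/
theorem exists_class_bound [Finite G] (P : Sylow p G)
    (hno : ¬ ∃ N : Subgroup G, N.Normal ∧ N.IsComplement' (P : Subgroup G)) (m : ℕ)
    (hm : ∀ e, e ∣ Nat.card G → e.Coprime p → 1 < e → m ≤ e) :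
    ∃ f q : ℕ, q ≤ Nat.card (P : Subgroup G) ∧ p * f ≤ q ∧ (p = 2 → 4 * f ≤ q) ∧
      m * p * Nat.card (PClasses p G) + m * q + p * f ≤
        p * q + m * p * f + m * Nat.card (P : Subgroup G) := by
  classical
  obtain ⟨Q, hQP, hZQ, g, hgN, hgo, hgC⟩ := exists_nontrivial_action P hno
  have hQp : IsPGroup p Q := P.isPGroup'.to_le hQP
  set F := Q ⊓ centralizer ({g} : Set G) with hF
  have hFQ' : F < Q := by
    refine lt_of_le_of_ne inf_le_left (fun h => hgC ?_)
    rw [mem_centralizer_iff]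
    intro x hx
    have hx' : x ∈ F := h.symm ▸ hx
    exact (mem_centralizer_iff.mp hx'.2 g rfl).symm
  set φ := toPClass P.isPGroup'
  set Qs : Set (P : Subgroup G) := {x | (x : G) ∈ Q} with hQs
  set Fs : Set (P : Subgroup G) := {x | (x : G) ∈ F} with hFs
  have hFQ : Fs ⊆ Qs := fun x hx => hx.1
  have hqs : Qs.ncard = Nat.card Q := by
    rw [← Nat.card_coe_set_eq]
    exact Nat.card_congr ⟨fun x => ⟨x.1.1, x.2⟩, fun x => ⟨⟨x.1, hQP x.2⟩, x.2⟩, fun x => rfl, fun x => rfl⟩
  have hfs : Fs.ncard = Nat.card F := by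
    rw [← Nat.card_coe_set_eq]
    exact Nat.card_congr ⟨fun x => ⟨x.1.1, x.2⟩, fun x => ⟨⟨x.1, hQP x.2.1⟩, x.2⟩, fun x => rfl, fun x => rfl⟩
  -- moved points of `Q`
  have hmove : m * (φ '' (Qs \ Fs)).ncard ≤ (Qs \ Fs).ncard := by
    refine mul_ncard_image_le φ _ m ?_
    rintro x ⟨hxQ, hxF⟩
    set O := MulAction.orbit (zpowers (ConjAct.toConjAct g)) (x : G) with hO
    have hOmem : ∀ y ∈ O, ∃ i : ℤ, y = g ^ i * x * (g ^ i)⁻¹ := by
      rintro y ⟨⟨γ, hγ⟩, rfl⟩
      obtain ⟨i, rfl⟩ := mem_zpowers_iff.mp hγ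
      exact ⟨i, by simp [← map_zpow, ConjAct.smul_def]⟩
    have hsub : O ⊆ Subtype.val '' ((Qs \ Fs) ∩ φ ⁻¹' {φ x}) := by
      intro y hy
      obtain ⟨i, rfl⟩ := hOmem y hy
      have hyQ : g ^ i * x * (g ^ i)⁻¹ ∈ Q :=
        (Subgroup.mem_normalizer_iff.mp (zpow_mem hgN i) _).mp hxQ
      refine ⟨⟨_, hQP hyQ⟩, ⟨⟨hyQ, fun hyF => hxF ⟨hxQ, ?_⟩⟩, ?_⟩, rfl⟩
      · have h1 := mem_centralizer_iff.mp hyF.2 g rfl
        refine mem_centralizer_iff.mpr fun z hz => ?_
        rw [Set.mem_singleton_iff.mp hz]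
        calc g * (x : G) = (g ^ i)⁻¹ * (g * (g ^ i * x * (g ^ i)⁻¹)) * g ^ i := by group
          _ = (g ^ i)⁻¹ * (g ^ i * x * (g ^ i)⁻¹ * g) * g ^ i := by rw [h1]
          _ = (x : G) * g := by group
      · rw [Set.mem_preimage, Set.mem_singleton_iff]
        refine Subtype.ext ?_
        simp only [φ, toPClass, ConjClasses.mk_eq_mk_iff_isConj]
        exact (isConj_iff.mpr ⟨g ^ i, rfl⟩).symm
    have h1 : O.ncard ≤ ((Qs \ Fs) ∩ φ ⁻¹' {φ x}).ncard :=
      (Set.ncard_le_ncard hsub (Set.toFinite _)).trans (Set.ncard_image_le (Set.toFinite _))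
    refine le_trans ?_ h1
    have hdvd : O.ncard ∣ orderOf g := orbit_ncard_dvd
    refine hm _ (hdvd.trans (orderOf_dvd_natCard g)) (hgo.coprime_dvd_left hdvd) ?_
    rw [Set.one_lt_ncard]
    refine ⟨_, MulAction.mem_orbit_self _, (⟨_, mem_zpowers _⟩ : zpowers (ConjAct.toConjAct g)) • (x : G),
      MulAction.mem_orbit _ _, fun h => hxF ⟨hxQ, ?_⟩⟩
    rw [Subgroup.smul_def, ConjAct.smul_def, ConjAct.ofConjAct_toConjAct] at h
    refine mem_centralizer_iff.mpr fun z hz => ?_
    rw [Set.mem_singleton_iff.mp hz]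
    exact (eq_mul_inv_iff_mul_eq.mp h).symm
  -- points outside `Q` with a new class
  set T : Set (P : Subgroup G) := {x | φ x ∉ φ '' Qs} with hT
  have hTQ : T ⊆ (Set.univ \ Qs) := fun x hx => ⟨trivial, fun h => hx ⟨x, h, rfl⟩⟩
  have houter : p * (φ '' T).ncard ≤ T.ncard := by
    refine mul_ncard_image_le φ _ p ?_
    intro x hx
    have hx' : x ∉ center (P : Subgroup G) := by
      intro hxc
      refine (hTQ hx).2 (hZQ _ x.2 fun y hy => ?_)
      exact (congrArg Subtype.val (mem_center_iff.mp hxc ⟨y, hy⟩)).symm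
    have hsub : MulAction.orbit (ConjAct (P : Subgroup G)) x ⊆ T ∩ φ ⁻¹' {φ x} := by
      intro y hy
      rw [ConjAct.mem_orbit_conjAct] at hy
      have h1 : φ y = φ x := Subtype.ext (by
        simp only [φ, toPClass, ConjClasses.mk_eq_mk_iff_isConj]
        exact MonoidHom.map_isConj (P : Subgroup G).subtype hy)
      exact ⟨by simpa [hT, h1] using hx, h1⟩
    refine le_trans ?_ (Set.ncard_le_ncard hsub (Set.toFinite _))
    have hd : IsPGroup p (ConjAct (P : Subgroup G)) := P.isPGroup'.of_equiv ConjAct.toConjAct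
    obtain ⟨e, he⟩ := hd.card_orbit x
    rw [Nat.card_coe_set_eq] at he
    rw [he]
    rcases Nat.eq_zero_or_pos e with rfl | he0
    · exfalso
      rw [pow_zero, Set.ncard_eq_one] at he
      obtain ⟨z, hz⟩ := he
      apply hx'
      rw [mem_center_iff]
      intro y
      have h1 : (ConjAct.toConjAct y) • x = x := by
        have h2 : (ConjAct.toConjAct y) • x ∈ ({z} : Set _) := hz ▸ MulAction.mem_orbit _ _
        have h3 : x ∈ ({z} : Set _) := hz ▸ MulAction.mem_orbit_self x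
        exact (Set.mem_singleton_iff.mp h2).trans (Set.mem_singleton_iff.mp h3).symm
      rw [ConjAct.toConjAct_smul] at h1
      exact mul_inv_eq_iff_eq_mul.mp h1
    · exact Nat.le_self_pow (by omega) p
  have hall : Nat.card (PClasses p G) ≤ (φ '' Fs).ncard + (φ '' (Qs \ Fs)).ncard + (φ '' T).ncard := by
    have h1 : (Set.univ : Set (PClasses p G)) ⊆ φ '' Fs ∪ φ '' (Qs \ Fs) ∪ φ '' T := by
      intro c _
      obtain ⟨x, rfl⟩ := toPClass_surjective P c
      rw [← Set.image_union, Set.union_sdiff_cancel hFQ]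
      by_cases h : φ x ∈ φ '' Qs
      · exact Or.inl h
      · exact Or.inr ⟨x, h, rfl⟩
    rw [← Set.ncard_univ]
    exact (Set.ncard_le_ncard h1 (Set.toFinite _)).trans
      ((Set.ncard_union_le _ _).trans (Nat.add_le_add_right (Set.ncard_union_le _ _) _))
  have hFi : (φ '' Fs).ncard ≤ Nat.card F := hfs ▸ Set.ncard_image_le (Set.toFinite _)
  have hQd : (Qs \ Fs).ncard + Nat.card F = Nat.card Q := by
    rw [← hfs, ← hqs]; exact Set.ncard_sdiff_add_ncard_of_subset hFQ (Set.toFinite _)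
  have hTd : T.ncard + Nat.card Q ≤ Nat.card (P : Subgroup G) := by
    have h1 := Set.ncard_sdiff_add_ncard_of_subset (Set.subset_univ Qs) (Set.toFinite _)
    rw [Set.ncard_univ, hqs] at h1
    have h2 := Set.ncard_le_ncard hTQ (Set.toFinite _)
    omega
  refine ⟨Nat.card F, Nat.card Q, card_le_of_le hQP, (mul_card_le_of_lt hQp hFQ').1, ?_, ?_⟩
  · rintro rfl
    exact (mul_card_le_of_lt hQp hFQ').2 (relIndex_ne_two hQp hgN hgo hgC)
  · have e1 : m * p * Nat.card (PClasses p G) ≤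
        m * p * ((φ '' Fs).ncard + (φ '' (Qs \ Fs)).ncard + (φ '' T).ncard) :=
      Nat.mul_le_mul_left _ hall
    have e2 : m * p * (φ '' Fs).ncard ≤ m * p * Nat.card F := Nat.mul_le_mul_left _ hFi
    have e3 := Nat.mul_le_mul_left p hmove
    have e4 := Nat.mul_le_mul_left m houter
    have e5 := Nat.mul_le_mul_left m hTd
    nlinarith [congrArg (p * ·) hQd]

end CfsgLib.PNilpotent
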