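import Mathlib
import Cfsg.Agent.Lib.PNilpotent.ClassCount

/-!
Many classes of `p`-elements force a normal `p`-complement; reduction from `π`-elements to `p`-elements.
-/

namespace CfsgLib.PNilpotent

open Subgroup

variable {G : Type*} [Group G] [Finite G] {p : ℕ} [hp : Fact p.Prime]

/-- For `p = 2`: more than `|P| / 2` classes of `2`-elements. -/
theorem complement_of_many_two_classes (P : Sylow 2 G)
    (hk : Nat.card (P : Subgroup G) < 2 * Nat.card (PClasses 2 G)) :
    ∃ N : Subgroup G, N.Normal ∧ N.IsComplement' (P : Subgroup G) := by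
  by_contra hno
  obtain ⟨f, q, hq, -, hf, h⟩ := exists_class_bound P hno 3 (fun e _ he h1 => by
    by_contra hlt
    obtain rfl : e = 2 := by omega
    simp at he)
  have := hf rfl
  omega

/-- For odd `p`: more than `(p + 1) / (2 p)` of `|P|` classes of `p`-elements. -/
theorem complement_of_many_odd_classes (hp2 : p ≠ 2) (P : Sylow p G)
    (hk : (p + 1) * Nat.card (P : Subgroup G) < 2 * p * Nat.card (PClasses p G)) :
    ∃ N : Subgroup G, N.Normal ∧ N.IsComplement' (P : Subgroup G) := by
  by_contra hno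
  obtain ⟨f, q, hq, hf, -, h⟩ := exists_class_bound P hno 2 (fun e _ _ h1 => by omega)
  have hp3 : 3 ≤ p := by have := hp.out.two_le; omega
  nlinarith [Nat.mul_le_mul_left (p - 1) hq, Nat.sub_add_cancel hp.out.one_le]

/-- For a group of odd order: more than half of `|P|` classes of `p`-elements. -/
theorem complement_of_many_classes_odd_group (hG : Odd (Nat.card G)) (hp2 : p ≠ 2) (P : Sylow p G)
    (hk : Nat.card (P : Subgroup G) < 2 * Nat.card (PClasses p G)) :
    ∃ N : Subgroup G, N.Normal ∧ N.IsComplement' (P : Subgroup G) := by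
  by_contra hno
  have hodd : ∀ e, e ∣ Nat.card G → 1 < e → 3 ≤ e := by
    intro e he h1
    by_contra hlt
    obtain rfl : e = 2 := by omega
    exact (Nat.not_even_iff_odd.mpr hG) (even_iff_two_dvd.mpr he)
  by_cases hp3 : p = 3
  · subst hp3
    obtain ⟨f, q, hq, hf, -, h⟩ := exists_class_bound P hno 5 (fun e he hc h1 => by
      have h3 := hodd e he h1
      by_contra hlt
      rcases (show e = 3 ∨ e = 4 by omega) with rfl | rfl
      · simp at hc
      · exact (Nat.not_even_iff_odd.mpr hG) (even_iff_two_dvd.mpr (dvd_trans (by norm_num) he)))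
    omega
  · obtain ⟨f, q, hq, hf, -, h⟩ := exists_class_bound P hno 3 (fun e he _ h1 => hodd e he h1)
    have hp5 : 5 ≤ p := by
      have := hp.out.two_le
      by_contra hlt
      obtain rfl : p = 4 := by omega
      exact (by norm_num : ¬ Nat.Prime 4) hp.out
    nlinarith [Nat.mul_le_mul_left (p - 1) hq, Nat.sub_add_cancel hp.out.one_le]

/-- Classes of a `p`-group: non-central classes have at least `p` elements. -/
theorem mul_card_conjClasses_le {P : Type*} [Group P] [Finite P] (hP : IsPGroup p P) :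
    p * Nat.card (ConjClasses P) + Nat.card (center P) ≤ Nat.card P + p * Nat.card (center P) := by
  classical
  have hmove : p * (ConjClasses.mk '' (Set.univ \ (center P : Set P))).ncard ≤
      (Set.univ \ (center P : Set P)).ncard := by
    refine mul_ncard_image_le _ _ p ?_
    rintro x ⟨-, hx⟩
    have hsub : MulAction.orbit (ConjAct P) x ⊆
        (Set.univ \ (center P : Set P)) ∩ ConjClasses.mk ⁻¹' {ConjClasses.mk x} := by
      intro y hy
      rw [ConjAct.mem_orbit_conjAct] at hy
      refine ⟨⟨trivial, fun hyc => hx ?_⟩, ?_⟩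
      · obtain ⟨c, rfl⟩ := isConj_iff.mp hy
        rw [mem_center_iff.mp hyc c, mul_inv_cancel_right]
        exact hyc
      · rw [Set.mem_preimage, Set.mem_singleton_iff, ConjClasses.mk_eq_mk_iff_isConj]
        exact hy
    refine le_trans ?_ (Set.ncard_le_ncard hsub (Set.toFinite _))
    have hd : IsPGroup p (ConjAct P) := hP.of_equiv ConjAct.toConjAct
    obtain ⟨e, he⟩ := hd.card_orbit x
    rw [Nat.card_coe_set_eq] at he
    rw [he]
    rcases Nat.eq_zero_or_pos e with rfl | he0
    · exfalso
      rw [pow_zero, Set.ncard_eq_one] at he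
      obtain ⟨z, hz⟩ := he
      apply hx
      rw [SetLike.mem_coe, mem_center_iff]
      intro y
      have h2 : (ConjAct.toConjAct y) • x ∈ ({z} : Set P) := hz ▸ MulAction.mem_orbit _ _
      have h3 : x ∈ ({z} : Set P) := hz ▸ MulAction.mem_orbit_self x
      have h1 := (Set.mem_singleton_iff.mp h2).trans (Set.mem_singleton_iff.mp h3).symm
      rw [ConjAct.toConjAct_smul] at h1
      exact mul_inv_eq_iff_eq_mul.mp h1
    · exact Nat.le_self_pow (by omega) p
  have h1 : Nat.card (ConjClasses P) ≤ (ConjClasses.mk '' (center P : Set P)).ncard +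
      (ConjClasses.mk '' (Set.univ \ (center P : Set P))).ncard := by
    refine le_trans ?_ (Set.ncard_union_le _ _)
    rw [← Set.image_union, Set.union_sdiff_cancel (Set.subset_univ _), Set.image_univ,
      Set.range_eq_univ.mpr ConjClasses.mk_surjective, Set.ncard_univ]
  have h2 : (ConjClasses.mk '' (center P : Set P)).ncard ≤ Nat.card (center P) := Set.ncard_image_le (Set.toFinite _)
  have h3 : (Set.univ \ (center P : Set P)).ncard + Nat.card (center P) = Nat.card P := by
    rw [← Set.ncard_univ P]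
    exact Set.ncard_sdiff_add_ncard_of_subset (Set.subset_univ _) (Set.toFinite _)
  nlinarith

/-- A `p`-group (`p` odd) with many classes is abelian. -/
theorem isMulCommutative_of_many_classes (hp2 : p ≠ 2) {P : Type*} [Group P] [Finite P]
    (hP : IsPGroup p P) (hk : (p + 1) * Nat.card P < 2 * p * Nat.card (ConjClasses P)) :
    IsMulCommutative P := by
  by_contra hna
  have h1 := mul_card_conjClasses_le hP
  have hZ : center P < ⊤ := lt_top_iff_ne_top.mpr (fun h => hna (center_eq_top_iff.mp h))
  obtain ⟨h2, h3⟩ := mul_card_le_of_lt (p := p) ((hP.to_subgroup ⊤)) hZ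
  have hne : (center P).relIndex ⊤ ≠ p := by
    rw [relIndex_top_right]
    intro h
    have hc : IsCyclic (P ⧸ center P) := isCyclic_of_prime_card (p := p) (by rw [← index_eq_card]; exact h)
    refine hna (IsMulCommutative.of_comm ?_)
    intro a b
    exact (MonoidHom.isMulCommutative_of_isCyclic_of_ker_le_center (QuotientGroup.mk' (center P))
      (by simp)).is_comm.comm a b
  have h4 := h3 hne
  rw [Subgroup.card_top] at h4
  have hp3 : 3 ≤ p := by have := hp.out.two_le; omega
  obtain ⟨q, rfl⟩ : ∃ q, p = q + 1 := ⟨p - 1, by omega⟩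
  have hpos : 0 < Nat.card (center P) := Nat.card_pos
  nlinarith [Nat.mul_le_mul_left q h4, Nat.mul_le_mul_left q (Nat.mul_le_mul_right (Nat.card (center P)) (Nat.mul_le_mul hp3 hp3))]

omit [Finite G] hp in
theorem conj_in_sylow_of_complement {N P : Subgroup G} (hN : N.Normal) (h : N.IsComplement' P)
    {a b g : G} (ha : a ∈ P) (hb : b ∈ P) (hg : g * a * g⁻¹ = b) : ∃ c ∈ P, c * a * c⁻¹ = b := by
  obtain ⟨n, hn, c, hc, rfl⟩ := (mem_sup_of_normal_left).mp (h.sup_eq_top ▸ mem_top g)
  refine ⟨c, hc, ?_⟩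
  have h1 : (c * a * c⁻¹)⁻¹ * b ∈ P := mul_mem (inv_mem (mul_mem (mul_mem hc ha) (inv_mem hc))) hb
  have h2 : (c * a * c⁻¹)⁻¹ * b ∈ N := by
    rw [← hg, show (c * a * c⁻¹)⁻¹ * (n * c * a * (n * c)⁻¹) =
      ((c * a * c⁻¹)⁻¹ * n * (c * a * c⁻¹)⁻¹⁻¹) * n⁻¹ by group]
    exact mul_mem (hN.conj_mem n hn _) (inv_mem hn)
  have h3 := disjoint_def.mp h.disjoint h2 h1
  exact inv_mul_eq_one.mp h3

/-- With a normal complement, the classes of `p`-elements are those of the Sylow subgroup. -/
theorem card_pClasses_eq_of_complement (P : Sylow p G) {N : Subgroup G} (hN : N.Normal)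
    (h : N.IsComplement' (P : Subgroup G)) :
    Nat.card (PClasses p G) = Nat.card (ConjClasses (P : Subgroup G)) := by
  refine le_antisymm (card_pClasses_le_card_conjClasses P) ?_
  refine Nat.card_le_card_of_injective
    (Quotient.lift (fun x => toPClass P.isPGroup' x) (fun a b hab => ?_)) ?_
  · refine Subtype.ext ?_
    simp only [toPClass, ConjClasses.mk_eq_mk_iff_isConj]
    exact MonoidHom.map_isConj (P : Subgroup G).subtype hab
  · intro c d hcd
    induction c using Quotient.inductionOn with | _ a =>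
    induction d using Quotient.inductionOn with | _ b =>
    apply Quotient.sound
    have h1 : IsConj (a : G) (b : G) := ConjClasses.mk_eq_mk_iff_isConj.mp (congrArg Subtype.val hcd)
    obtain ⟨g, hg⟩ := isConj_iff.mp h1
    obtain ⟨c, hc, hcab⟩ := conj_in_sylow_of_complement hN h a.2 b.2 hg
    exact isConj_iff.mpr ⟨⟨c, hc⟩, Subtype.ext hcab⟩

/-- The `π`-part of a number. -/
def piPart (π : Finset ℕ) (n : ℕ) : ℕ := π.prod fun r => r ^ n.factorization r

theorem piPart_pos {π : Finset ℕ} (hπ : ∀ r ∈ π, r.Prime) (n : ℕ) : 0 < piPart π n :=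
  Finset.prod_pos fun r hr => pow_pos (hπ r hr).pos _

theorem piPart_mono {π : Finset ℕ} (hπ : ∀ r ∈ π, r.Prime) {m n : ℕ} (hn : n ≠ 0) (h : m ∣ n) :
    piPart π m ≤ piPart π n := by
  refine Finset.prod_le_prod' fun r hr => ?_
  refine Nat.pow_le_pow_right (hπ r hr).pos ?_
  exact (Nat.factorization_le_iff_dvd (ne_zero_of_dvd_ne_zero hn h) hn).mpr h r

/-- Classes of `({r} ∪ σ)`-elements, by the class of their `r`-part. -/
theorem card_piClasses_insert_le {r : ℕ} (hr : r.Prime) {σ : Finset ℕ} (hrσ : r ∉ σ) (B : ℕ)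
    (hB : ∀ x : G, Nat.card (PiClasses σ (centralizer ({x} : Set G))) ≤ B) :
    Nat.card (PiClasses (insert r σ) G) ≤ Nat.card (PClasses r G) * B := by
  have : Fact r.Prime := ⟨hr⟩
  -- the representative of the class of the `r`-part
  have key : ∀ c : PiClasses (insert r σ) G, ∃ (d : PClasses r G) (z : G),
      z * Quotient.out d.1 = Quotient.out d.1 * z ∧
      (∀ s : ℕ, s.Prime → s ∣ orderOf z → s ∈ σ) ∧
      ConjClasses.mk (Quotient.out d.1 * z) = c.1 := by
    rintro ⟨c, hc⟩
    obtain ⟨y, rfl⟩ := ConjClasses.mk_surjective c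
    obtain ⟨a, b, hab, hk, hb⟩ := exists_pPart_decomp (p := r) y
    let d : PClasses r G := ⟨ConjClasses.mk (y ^ a),
      (forall_carrier_iff (q := fun n => ∃ k, n = r ^ k)).mpr hk⟩
    have hd : IsConj (y ^ a) (Quotient.out d.1) := by
      rw [← ConjClasses.mk_eq_mk_iff_isConj]
      exact (Quotient.out_eq d.1).symm
    obtain ⟨g, hg⟩ := isConj_iff.mp hd
    refine ⟨d, g * y ^ b * g⁻¹, ?_, ?_, ?_⟩
    · rw [← hg]
      calc g * y ^ b * g⁻¹ * (g * y ^ a * g⁻¹) = g * (y ^ b * y ^ a) * g⁻¹ := by group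
        _ = g * (y ^ a * y ^ b) * g⁻¹ := by rw [← pow_add, ← pow_add, add_comm]
        _ = _ := by group
    · intro s hs hsd
      rw [← MulAut.conj_apply, MulEquiv.orderOf_eq] at hsd
      have h1 := hc y ConjClasses.mem_carrier_mk s hs (hsd.trans (orderOf_pow_dvd b))
      rcases Finset.mem_insert.mp h1 with rfl | h2
      · exact absurd hsd ((Nat.Prime.coprime_iff_not_dvd hs).mp hb.symm)
      · exact h2
    · rw [← hg, ConjClasses.mk_eq_mk_iff_isConj]
      refine (isConj_iff.mpr ⟨g, ?_⟩).symm
      conv_lhs => rw [← hab]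
      group
  choose d z hcomm hσ hmk using key
  have hz : ∀ c, z c ∈ centralizer ({Quotient.out (d c).1} : Set G) := fun c => by
    rw [mem_centralizer_iff]
    intro w hw
    rw [Set.mem_singleton_iff.mp hw]
    exact (hcomm c).symm
  let f : PiClasses (insert r σ) G → Σ e : PClasses r G, PiClasses σ (centralizer ({Quotient.out e.1} : Set G)) :=
    fun c => ⟨d c, ⟨ConjClasses.mk ⟨z c, hz c⟩,
      (forall_carrier_iff (q := fun n => ∀ s : ℕ, s.Prime → s ∣ n → s ∈ σ)).mpr (by
        rw [← orderOf_coe]; exact hσ c)⟩⟩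
  have hf : Function.Injective f := by
    intro c c' h
    have h1 : d c = d c' := congrArg Sigma.fst h
    have h2 : ∀ (e e' : PClasses r G) (w : G) (hw : w ∈ centralizer ({Quotient.out e.1} : Set G)) (w' : G)
        (hw' : w' ∈ centralizer ({Quotient.out e'.1} : Set G)) (P1 P2),
        (⟨e, ⟨ConjClasses.mk ⟨w, hw⟩, P1⟩⟩ : Σ e : PClasses r G,
            PiClasses σ (centralizer ({Quotient.out e.1} : Set G))) =
          ⟨e', ⟨ConjClasses.mk ⟨w', hw'⟩, P2⟩⟩ →
        ConjClasses.mk (Quotient.out e.1 * w) = ConjClasses.mk (Quotient.out e'.1 * w') := by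
      intro e e' w hw w' hw' P1 P2 he
      obtain ⟨rfl, he2⟩ := Sigma.mk.inj_iff.mp he
      have he3 := congrArg Subtype.val (eq_of_heq he2)
      rw [ConjClasses.mk_eq_mk_iff_isConj] at he3 ⊢
      obtain ⟨g, hg⟩ := isConj_iff.mp he3
      have hg' : (g : G) * w * (g : G)⁻¹ = w' := congrArg Subtype.val hg
      refine isConj_iff.mpr ⟨g, ?_⟩
      have hgc := mem_centralizer_iff.mp g.2 (Quotient.out e.1) rfl
      calc (g : G) * (Quotient.out e.1 * w) * (g : G)⁻¹
          = ((g : G) * Quotient.out e.1) * (w * (g : G)⁻¹) := by group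
        _ = (Quotient.out e.1 * g) * (w * (g : G)⁻¹) := by rw [hgc]
        _ = Quotient.out e.1 * ((g : G) * w * (g : G)⁻¹) := by group
        _ = _ := by rw [hg']
    have h3 := h2 (d c) (d c') (z c) (hz c) (z c') (hz c') _ _ h
    rw [hmk, hmk] at h3
    exact Subtype.ext h3
  refine (Nat.card_le_card_of_injective f hf).trans ?_
  have := Fintype.ofFinite (PClasses r G)
  rw [Nat.card_sigma, Nat.card_eq_fintype_card (α := PClasses r G)]
  exact (Finset.sum_le_card_nsmul _ _ B (fun e _ => hB _)).trans_eq (by simp)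

/-- A group has at most `|G|_π` classes of `π`-elements. -/
theorem card_piClasses_le {π : Finset ℕ} (hπ : ∀ r ∈ π, r.Prime) (G : Type*) [Group G] [Finite G] :
    Nat.card (PiClasses π G) ≤ piPart π (Nat.card G) := by
  induction π using Finset.induction_on generalizing G with
  | empty =>
    refine le_trans ?_ (le_of_eq (Finset.prod_empty).symm)
    rw [Finite.card_le_one_iff_subsingleton]
    refine ⟨fun ⟨a, ha⟩ ⟨b, hb⟩ => Subtype.ext ?_⟩
    obtain ⟨x, rfl⟩ := ConjClasses.mk_surjective a
    obtain ⟨y, rfl⟩ := ConjClasses.mk_surjective b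
    have h1 : ∀ x : G, (∀ r : ℕ, r.Prime → r ∣ orderOf x → r ∈ (∅ : Finset ℕ)) → x = 1 := by
      intro x hx
      rw [← orderOf_eq_one_iff]
      by_contra hne
      obtain ⟨r, hr, hrd⟩ := Nat.exists_prime_and_dvd hne
      simp at hx
      exact hx r hr hrd
    change ConjClasses.mk x = ConjClasses.mk y
    rw [h1 x (ha x ConjClasses.mem_carrier_mk), h1 y (hb y ConjClasses.mem_carrier_mk)]
  | @insert r σ hr ih =>
    have hσ : ∀ s ∈ σ, s.Prime := fun s hs => hπ s (Finset.mem_insert_of_mem hs)
    have hrp : r.Prime := hπ r (Finset.mem_insert_self r σ)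
    have : Fact r.Prime := ⟨hrp⟩
    obtain ⟨P⟩ := (inferInstance : Nonempty (Sylow r G))
    refine (card_piClasses_insert_le hrp hr (piPart σ (Nat.card G)) (fun x => (ih hσ _).trans
      (piPart_mono hσ Nat.card_pos.ne' (card_subgroup_dvd_card _)))).trans ?_
    rw [piPart, piPart, Finset.prod_insert hr]
    refine Nat.mul_le_mul_right _ ?_
    rw [← P.card_eq_multiplicity]
    exact (card_pClasses_le_card_conjClasses P).trans
      (Nat.card_le_card_of_surjective _ ConjClasses.mk_surjective)

/-- The number of classes of `π`-elements is at most `k_r(G) |G|_{π \ r}`. -/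
theorem card_piClasses_le_mul {π : Finset ℕ} (hπ : ∀ r ∈ π, r.Prime) {r : ℕ} (hr : r ∈ π) :
    Nat.card (PiClasses π G) * r ^ (Nat.card G).factorization r ≤
      Nat.card (PClasses r G) * piPart π (Nat.card G) := by
  have h1 : π = insert r (π.erase r) := (Finset.insert_erase hr).symm
  have hσ : ∀ s ∈ π.erase r, s.Prime := fun s hs => hπ s (Finset.mem_of_mem_erase hs)
  have h2 := card_piClasses_insert_le (G := G) (hπ r hr) (Finset.notMem_erase r π)
    (piPart (π.erase r) (Nat.card G)) (fun x => (card_piClasses_le hσ _).trans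
      (piPart_mono hσ Nat.card_pos.ne' (card_subgroup_dvd_card _)))
  rw [← h1] at h2
  refine (Nat.mul_le_mul_right _ h2).trans (le_of_eq ?_)
  rw [mul_assoc, piPart, piPart, Finset.prod_erase_mul _ _ hr]

omit [Finite G] in
/-- The intersection of normal complements for the primes of `π` is a normal `π`-complement, and `G / N` is abelian
in the parts where the Sylow subgroups are. -/
theorem exists_pi_complement {π : Finset ℕ} (hπ : ∀ r ∈ π, r.Prime)
    (h : ∀ r ∈ π, ∃ N : Subgroup G, N.Normal ∧ ¬ r ∣ Nat.card N ∧ ∃ k, N.index = r ^ k) :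
    ∃ N : Subgroup G, N.Normal ∧ (∀ r : ℕ, r.Prime → r ∣ Nat.card N → r ∉ π) ∧
      ∀ r : ℕ, r.Prime → r ∣ N.index → r ∈ π := by
  induction π using Finset.induction_on with
  | empty => exact ⟨⊤, inferInstance, by simp, by simp +contextual [Nat.Prime.ne_one]⟩
  | @insert r σ hr ih =>
    obtain ⟨N, hN, hN1, hN2⟩ := ih (fun s hs => hπ s (Finset.mem_insert_of_mem hs))
      (fun s hs => h s (Finset.mem_insert_of_mem hs))
    obtain ⟨M, hM, hM1, k, hM2⟩ := h r (Finset.mem_insert_self r σ)
    refine ⟨N ⊓ M, inferInstance, ?_, ?_⟩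
    · intro s hs hsd hsmem
      rcases Finset.mem_insert.mp hsmem with rfl | hsσ
      · exact hM1 (hsd.trans (card_dvd_of_le inf_le_right))
      · exact hN1 s hs (hsd.trans (card_dvd_of_le inf_le_left)) hsσ
    · intro s hs hsd
      have h1 := relIndex_mul_index (inf_le_left : N ⊓ M ≤ N)
      rw [inf_relIndex_left] at h1
      rw [← h1] at hsd
      rcases hs.dvd_mul.mp hsd with h2 | h2
      · have h3 : s ∣ r ^ k := hM2 ▸ h2.trans (relIndex_dvd_index_of_normal M N)
        rw [(Nat.prime_dvd_prime_iff_eq hs (hπ r (Finset.mem_insert_self r σ))).mp (hs.dvd_of_dvd_pow h3)]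
        exact Finset.mem_insert_self r σ
      · exact Finset.mem_insert_of_mem (hN2 s hs h2)

end CfsgLib.PNilpotent
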