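import Mathlib
import Cfsg.Agent.Lib.PNilpotent.ManyClasses

/-!
Normal complements with abelian Sylow subgroups give a normal `π`-complement with an abelian complement.
-/

namespace CfsgLib.PNilpotent

open Subgroup commutatorElement

variable {G : Type*} [Group G]

theorem isComplement'_of_sylow [Finite G] {p : ℕ} [Fact p.Prime] {N : Subgroup G} (P Q : Sylow p G)
    (h : N.IsComplement' (Q : Subgroup G)) : N.IsComplement' (P : Subgroup G) := by
  refine isComplement'_of_coprime ?_ ?_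
  · rw [P.card_eq_multiplicity, ← Q.card_eq_multiplicity]
    exact h.card_mul_card
  · obtain ⟨n, hn⟩ := P.isPGroup'.exists_card_eq
    rw [hn, ← h.index_eq_card]
    exact Nat.Coprime.pow_right _ (Nat.coprime_comm.mp ((Nat.Prime.coprime_iff_not_dvd Fact.out).mpr
      Q.not_dvd_index))

theorem hasNormalPComplement_iff [Finite G] {p : ℕ} [Fact p.Prime] (P : Sylow p G) :
    Cfsg.HasNormalPComplement p G ↔ ∃ N : Subgroup G, N.Normal ∧ N.IsComplement' (P : Subgroup G) :=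
  ⟨fun ⟨Q, N, hN, h⟩ => ⟨N, hN, isComplement'_of_sylow P Q h⟩, fun ⟨N, hN, h⟩ => ⟨P, N, hN, h⟩⟩

theorem complement_props [Finite G] {p : ℕ} [Fact p.Prime] {N : Subgroup G} (P : Sylow p G)
    (h : N.IsComplement' (P : Subgroup G)) :
    ¬ p ∣ Nat.card N ∧ ∃ k, N.index = p ^ k := by
  refine ⟨?_, ?_⟩
  · rw [← h.index_eq_card]
    exact P.not_dvd_index
  · obtain ⟨k, hk⟩ := P.isPGroup'.exists_card_eq
    exact ⟨k, by rw [h.symm.index_eq_card, hk]⟩

theorem commutator_le_of_complement {N P : Subgroup G} (hN : N.Normal) (h : N.IsComplement' P)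
    (hP : IsMulCommutative P) : commutator G ≤ N := by
  apply (Normal.quotient_commutative_iff_commutator_le).mp
  refine IsMulCommutative.of_comm fun x y => ?_
  have key : ∀ x : G ⧸ N, ∃ c ∈ P, (c : G ⧸ N) = x := by
    intro x
    obtain ⟨g, rfl⟩ := QuotientGroup.mk_surjective x
    obtain ⟨n, hn, c, hc, rfl⟩ := (mem_sup_of_normal_left).mp (h.sup_eq_top ▸ mem_top g)
    exact ⟨c, hc, by rw [QuotientGroup.mk_mul, (QuotientGroup.eq_one_iff n).mpr hn, one_mul]⟩
  obtain ⟨a, ha, rfl⟩ := key x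
  obtain ⟨b, hb, rfl⟩ := key y
  rw [← QuotientGroup.mk_mul, ← QuotientGroup.mk_mul]
  exact congrArg _ (congrArg Subtype.val (hP.is_comm.comm ⟨a, ha⟩ ⟨b, hb⟩))

/-- The main package. -/
theorem exists_complement_abelian_hall [Finite G] {π : Finset ℕ} (hπ : ∀ r ∈ π, r.Prime)
    (h : ∀ r ∈ π, ∃ N : Subgroup G, N.Normal ∧ (¬ r ∣ Nat.card N ∧ ∃ k, N.index = r ^ k) ∧ commutator G ≤ N) :
    ∃ N H : Subgroup G, N.Normal ∧ (∀ r : ℕ, r.Prime → r ∣ Nat.card N → r ∉ π) ∧
      (∀ r : ℕ, r.Prime → r ∣ N.index → r ∈ π) ∧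
      (∀ x : G, (∀ r ∈ π, ¬ r ∣ orderOf x) → x ∈ N) ∧
      IsMulCommutative H ∧ Nat.card H = N.index ∧ H.index = Nat.card N := by
  obtain ⟨N, hN, hN1, hN2⟩ := exists_pi_complement hπ
    (fun r hr => let ⟨M, h1, h2, _⟩ := h r hr; ⟨M, h1, h2⟩)
  have hmem : ∀ x : G, (∀ r ∈ π, ¬ r ∣ orderOf x) → x ∈ N := by
    intro x hx
    rw [← QuotientGroup.eq_one_iff, ← orderOf_eq_one_iff]
    by_contra hne
    obtain ⟨r, hr, hrd⟩ := Nat.exists_prime_and_dvd hne
    exact hx r (hN2 r hr (hrd.trans (by rw [index_eq_card]; exact orderOf_dvd_natCard _)))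
      (hrd.trans (orderOf_map_dvd (QuotientGroup.mk' N) x))
  have hcop : Nat.Coprime (Nat.card N) N.index :=
    Nat.coprime_of_dvd fun r hr h1 h2 => hN1 r hr h1 (hN2 r hr h2)
  obtain ⟨H, hH⟩ := exists_right_complement'_of_coprime hcop
  refine ⟨N, H, hN, hN1, hN2, hmem, ?_, hH.symm.index_eq_card.symm, hH.index_eq_card⟩
  refine IsMulCommutative.of_comm fun a b => ?_
  have hc : ⁅(a : G), (b : G)⁆ ∈ N := by
    refine hmem _ fun r hr hrd => ?_
    obtain ⟨M, -, ⟨h2, -⟩, h3⟩ := h r hr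
    have h4 : ⁅(a : G), (b : G)⁆ ∈ M := h3 (commutator_mem_commutator (mem_top _) (mem_top _))
    exact h2 (hrd.trans (orderOf_dvd_natCard M h4))
  have hh : ⁅(a : G), (b : G)⁆ ∈ H := by
    rw [commutatorElement_def]
    exact mul_mem (mul_mem (mul_mem a.2 b.2) (inv_mem a.2)) (inv_mem b.2)
  exact Subtype.ext (commutatorElement_eq_one_iff_mul_comm.mp (disjoint_def.mp hH.disjoint hc hh))

end CfsgLib.PNilpotent
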