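import Mathlib
import Cfsg.Agent.Lib.OddOrder.PiCore
import Cfsg.Agent.Lib.Frobenius.ComplementSylow
import Cfsg.Agent.Lib.PGroup.CyclicMaximal
import Cfsg.Agent.Lib.Solvable.Core
import Cfsg.Agent.Lib.FusionPStable.Local

/-!
Finite solvable groups with disconnected prime graph are Frobenius or 2-Frobenius (Gruenberg–Kegel).
-/

namespace CfsgLib.DisconnSolv

open Subgroup

universe u

/-- No element has order divisible by a prime in `π` and a prime outside `π`. -/
def Sep (π : Set ℕ) (G : Type u) [Group G] : Prop :=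
  ∀ g : G, ∀ a b : ℕ, a.Prime → b.Prime → a ∈ π → b ∉ π → a ∣ orderOf g → b ∣ orderOf g → False

variable {G : Type u} [Group G] {π : Set ℕ}

theorem Sep.compl (h : Sep π G) : Sep πᶜ G := fun g a b ha hb haπ hbπ h1 h2 =>
  h g b a hb ha (by simpa using hbπ) haπ h2 h1

theorem Sep.quotient [Finite G] (h : Sep π G) (K : Subgroup G) [K.Normal] : Sep π (G ⧸ K) := by
  intro g a b ha hb haπ hbπ h1 h2
  obtain ⟨x, rfl⟩ := QuotientGroup.mk'_surjective K g
  exact h x a b ha hb haπ hbπ (h1.trans (orderOf_map_dvd _ x)) (h2.trans (orderOf_map_dvd _ x))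

theorem Sep.subgroup (h : Sep π G) (K : Subgroup G) : Sep π K := by
  intro g a b ha hb haπ hbπ h1 h2
  rw [← Subgroup.orderOf_coe] at h1 h2
  exact h g a b ha hb haπ hbπ h1 h2

theorem eq_one_of_commute [Finite G] (h : Sep π G) {x y : G} (hxy : Commute x y)
    (hx : ∀ p, p.Prime → p ∣ orderOf x → p ∈ π) (hy : ∀ p, p.Prime → p ∣ orderOf y → p ∉ π) :
    x = 1 ∨ y = 1 := by
  by_contra hne
  push Not at hne
  obtain ⟨a, ha, hax⟩ := Nat.exists_prime_and_dvd (fun h1 => hne.1 (orderOf_eq_one_iff.mp h1))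
  obtain ⟨b, hb, hby⟩ := Nat.exists_prime_and_dvd (fun h1 => hne.2 (orderOf_eq_one_iff.mp h1))
  have hcop : (orderOf x).Coprime (orderOf y) :=
    Nat.coprime_of_dvd fun p hp h1 h2 => hy p hp h2 (hx p hp h1)
  refine h (x * y) a b ha hb (hx a ha hax) (hy b hb hby) ?_ ?_ <;> rw [hxy.orderOf_mul_eq_mul_orderOf_of_coprime hcop]
  · exact dvd_mul_of_dvd_left hax _
  · exact dvd_mul_of_dvd_right hby _

variable [Finite G]

/-- A normal Hall `π`-subgroup gives a Frobenius group. -/
theorem exists_frobenius (h : Sep π G) (N : Subgroup G) [N.Normal] (hN : N ≠ ⊥) (hNt : N ≠ ⊤)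
    (h1 : Cfsg.IsPiSubgroup π N) (h2 : ∀ p, p.Prime → p ∣ N.index → p ∉ π) :
    ∃ C : Subgroup G, N.IsComplement' C ∧ Cfsg.IsFrobeniusComplement C ∧
      Cfsg.frobeniusKernel C = (N : Set G) ∧ ∀ c ∈ C, c ≠ 1 → N ⊓ Subgroup.centralizer {c} = ⊥ := by
  obtain ⟨C, hC⟩ := Subgroup.exists_right_complement'_of_coprime (N := N)
    (Nat.coprime_of_dvd fun p hp hp1 hp2 => h2 p hp hp2 (h1 p hp hp1))
  have hCcard : Nat.card C = N.index := hC.symm.index_eq_card.symm
  have hfpf : ∀ c ∈ C, c ≠ 1 → N ⊓ Subgroup.centralizer {c} = ⊥ := by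
    intro c hc hc1
    rw [eq_bot_iff]
    intro n hn
    rw [mem_bot]
    exact (eq_one_of_commute h (mem_centralizer_singleton_iff.mp hn.2)
      (fun p hp hd => h1 p hp (hd.trans (N.orderOf_dvd_natCard hn.1)))
      (fun p hp hd => h2 p hp (hCcard ▸ hd.trans (C.orderOf_dvd_natCard hc)))).resolve_right hc1
  have hCb : C ≠ ⊥ := fun hb => hNt (Subgroup.index_eq_one.mp (by rw [← hCcard, hb, Subgroup.card_bot]))
  have hF := CfsgLib.Frobenius.isFrobeniusComplement_of_fpf hC hN hCb hfpf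
  exact ⟨C, hC, hF, (CfsgLib.Frobenius.kernel_eq_of_isComplement' hC hF).symm, hfpf⟩

theorem fittingSubgroup_ne_bot [Group.IsSolvable G] [Nontrivial G] : Cfsg.fittingSubgroup G ≠ ⊥ := by
  intro h
  have h1 := CfsgLib.Solvable.centralizer_fittingSubgroup_le (G := G)
  rw [h] at h1
  obtain ⟨x, hx⟩ := exists_ne (1 : G)
  exact hx (mem_bot.mp (h1 (mem_centralizer_iff.mpr fun y hy => by rw [mem_bot.mp hy, one_mul, mul_one])))

/-- A nontrivial solvable group has a nontrivial normal `p`-subgroup for some prime `p`. -/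
theorem exists_piCore_ne_bot [Group.IsSolvable G] [Nontrivial G] :
    ∃ p : ℕ, p.Prime ∧ p ∣ Nat.card G ∧ ∀ π : Set ℕ, p ∈ π → Cfsg.piCore π G ≠ ⊥ := by
  set F := Cfsg.fittingSubgroup G with hF
  haveI : F.Normal := CfsgLib.Solvable.fittingSubgroup_normal G
  obtain ⟨p, hp, hpd⟩ := Nat.exists_prime_and_dvd
    (fun h => fittingSubgroup_ne_bot (G := G) (Subgroup.card_eq_one.mp h))
  haveI : Fact p.Prime := ⟨hp⟩
  obtain ⟨S⟩ := (inferInstance : Nonempty (Sylow p F))
  haveI hSn : (S : Subgroup F).Normal :=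
    ((Group.isNilpotent_of_finite_tfae (G := F)).out 0 3 rfl rfl).mp (CfsgLib.Solvable.fittingSubgroup_isNilpotent G) p ‹_› S
  haveI : (S : Subgroup F).Characteristic := Sylow.characteristic_of_normal S hSn
  refine ⟨p, hp, hpd.trans F.card_subgroup_dvd_card, fun π hpπ hbot => ?_⟩
  have hle : (S : Subgroup F).map F.subtype ≤ Cfsg.piCore π G :=
    CfsgLib.OddOrder.le_piCore inferInstance fun q hq hd => by
      obtain ⟨j, hj⟩ := (S.isPGroup'.map F.subtype).exists_card_eq
      rw [hj] at hd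
      rwa [(Nat.prime_dvd_prime_iff_eq hq hp).mp (hq.dvd_of_dvd_pow hd)]
  rw [hbot, le_bot_iff, map_eq_bot_iff_of_injective _ F.subtype_injective] at hle
  exact S.ne_bot_of_dvd_card hpd hle

/-- The top step: a solvable group with trivial `π`-core whose Sylow subgroups in the `π'`-core are cyclic
(or have a unique involution) is a Frobenius group. -/
theorem top_step [Group.IsSolvable G] (h : Sep π G) (hπ : ∃ a ∈ π, a.Prime ∧ a ∣ Nat.card G)
    (hcore : Cfsg.piCore π G = ⊥)
    (hcyc : ∀ q : ℕ, q.Prime → ∀ S : Subgroup G, IsPGroup q S → S ≤ Cfsg.piCore πᶜ G →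
      (q ≠ 2 → IsCyclic S) ∧ (q = 2 → ∀ x ∈ S, ∀ y ∈ S, orderOf x = 2 → orderOf y = 2 → x = y)) :
    ∀ p, p.Prime → p ∣ (Cfsg.piCore πᶜ G).index → p ∈ π := by
  classical
  set H := Cfsg.piCore πᶜ G with hH
  have hHp : Cfsg.IsPiSubgroup πᶜ H := CfsgLib.OddOrder.piCore_isPiSubgroup _ G
  set F := Cfsg.fittingSubgroup G with hF
  haveI hFn : F.Normal := CfsgLib.Solvable.fittingSubgroup_normal G
  have hFnil := CfsgLib.Solvable.fittingSubgroup_isNilpotent G
  have hS : ∀ (q : ℕ) [Fact q.Prime] (S : Sylow q F), ((S : Subgroup F).map F.subtype).Normal := fun q _ S => by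
    haveI hSn : (S : Subgroup F).Normal :=
      ((Group.isNilpotent_of_finite_tfae (G := F)).out 0 3 rfl rfl).mp hFnil q ‹_› S
    haveI : (S : Subgroup F).Characteristic := Sylow.characteristic_of_normal S hSn
    infer_instance
  -- `F` is a `π'`-group
  have hFπ : Cfsg.IsPiSubgroup πᶜ F := by
    intro q hq hqd hqπ
    haveI : Fact q.Prime := ⟨hq⟩
    obtain ⟨S⟩ := (inferInstance : Nonempty (Sylow q F))
    have hle : (S : Subgroup F).map F.subtype ≤ Cfsg.piCore π G :=
      CfsgLib.OddOrder.le_piCore (hS q S) fun r hr hd => by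
        obtain ⟨j, hj⟩ := (S.isPGroup'.map F.subtype).exists_card_eq
        rw [hj] at hd
        rwa [(Nat.prime_dvd_prime_iff_eq hr hq).mp (hr.dvd_of_dvd_pow hd)]
    rw [hcore, le_bot_iff, map_eq_bot_iff_of_injective _ F.subtype_injective] at hle
    exact S.ne_bot_of_dvd_card hqd hle
  have hFH : F ≤ H := CfsgLib.OddOrder.le_piCore hFn hFπ
  -- the commutator subgroup centralises `F`
  have hcomm : commutator G ≤ Subgroup.centralizer (F : Set G) := by
    rw [Subgroup.le_centralizer_iff]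
    set C := Subgroup.centralizer (commutator G : Set G)
    suffices hle : Nat.card F ∣ Nat.card ↥(C ⊓ F) from
      (eq_of_le_of_card_ge inf_le_right (Nat.le_of_dvd Nat.card_pos hle)).ge.trans inf_le_left
    refine (Nat.factorization_prime_le_iff_dvd Nat.card_pos.ne' Nat.card_pos.ne').mp fun q hq => ?_
    haveI : Fact q.Prime := ⟨hq⟩
    obtain ⟨S⟩ := (inferInstance : Nonempty (Sylow q F))
    haveI := hS q S
    set S' := (S : Subgroup F).map F.subtype with hS'
    have hS'p : IsPGroup q S' := S.isPGroup'.map _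
    have hS'H : S' ≤ H := (map_subtype_le _).trans hFH
    have hS'c : IsCyclic S' := by
      by_cases hq2 : q = 2
      · subst hq2
        by_contra hnc
        have hne : S' ≠ ⊥ := fun hb => hnc (by rw [hb]; infer_instance)
        obtain ⟨z, hz, hzo⟩ : ∃ z ∈ S', orderOf z = 2 := by
          obtain ⟨z, hz⟩ := exists_prime_orderOf_dvd_card' 2
            (hS'p.card_eq_or_dvd.resolve_left fun h1 => hne (Subgroup.card_eq_one.mp h1))
          exact ⟨z, z.2, by rw [Subgroup.orderOf_coe, hz]⟩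
        obtain ⟨a, haπ, ha, hag⟩ := hπ
        haveI : Fact a.Prime := ⟨ha⟩
        obtain ⟨w, hw⟩ := exists_prime_orderOf_dvd_card' a hag
        have hcw : w * z * w⁻¹ = z := (hcyc 2 hq S' hS'p hS'H).2 rfl _ ((inferInstance : S'.Normal).conj_mem z hz w) z hz
          (by rw [← MulAut.conj_apply, MulEquiv.orderOf_eq, hzo]) hzo
        have h2π : 2 ∈ πᶜ := hHp 2 hq (hzo ▸ H.orderOf_dvd_natCard (hS'H hz))
        rcases eq_one_of_commute h (x := w) (y := z) (mul_inv_eq_iff_eq_mul.mp hcw)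
          (fun p hp hd => by rwa [(Nat.prime_dvd_prime_iff_eq hp ha).mp (hw ▸ hd)])
          (fun p hp hd => by
            obtain rfl := (Nat.prime_dvd_prime_iff_eq hp hq).mp (hzo ▸ hd)
            exact h2π) with h1 | h1
        · rw [h1, orderOf_one] at hw; exact ha.ne_one hw.symm
        · rw [h1, orderOf_one] at hzo; omega
      · exact (hcyc q hq S' hS'p hS'H).1 hq2
    have hle : S' ≤ C ⊓ F := by
      refine le_inf ?_ (map_subtype_le _)
      rw [Subgroup.le_centralizer_iff, commutator_def, Subgroup.commutator_le]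
      intro a _ b _
      rw [Subgroup.mem_centralizer_iff]
      intro s hs
      have hab := CfsgLib.FusionPStable.mulAut_commute_of_isCyclic hS'c (MulAut.conjNormal a) (MulAut.conjNormal b)
      have h1 := congrArg (fun f : MulAut S' => ((f ((MulAut.conjNormal b)⁻¹ ((MulAut.conjNormal a)⁻¹ ⟨s, hs⟩)) : S') : G)) hab.eq
      simp only [MulAut.mul_apply, MulAut.conjNormal_apply, MulAut.conjNormal_inv_apply] at h1
      rw [commutatorElement_def]
      calc s * (a * b * a⁻¹ * b⁻¹)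
          = (a * b * a⁻¹ * b⁻¹) * (b * (a * (b⁻¹ * (a⁻¹ * s * a) * b) * a⁻¹) * b⁻¹) := by group
        _ = (a * b * a⁻¹ * b⁻¹) * (a * (b * (b⁻¹ * (a⁻¹ * s * a) * b) * b⁻¹) * a⁻¹) := by rw [h1]
        _ = _ := by group
    have h3 : q ^ (Nat.card F).factorization q ∣ Nat.card ↥(C ⊓ F) := by
      rw [← S.card_eq_multiplicity, ← Subgroup.card_map_of_injective F.subtype_injective]
      exact Subgroup.card_dvd_of_le hle
    exact (hq.pow_dvd_iff_le_factorization Nat.card_pos.ne').mp h3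
  have hder : commutator G ≤ H := (hcomm.trans CfsgLib.Solvable.centralizer_fittingSubgroup_le).trans hFH
  intro p hp hpd
  by_contra hpπ
  haveI : Fact p.Prime := ⟨hp⟩
  set f := QuotientGroup.mk' H
  obtain ⟨x, hx⟩ := exists_prime_orderOf_dvd_card' p (H.index_eq_card ▸ hpd)
  set Z := Subgroup.zpowers x with hZ
  have hZn : (Z.comap f).Normal := by
    refine Subgroup.Normal.comap ?_ f
    exact ⟨fun z hz y => by
      obtain ⟨y, rfl⟩ := QuotientGroup.mk'_surjective H y
      obtain ⟨v, rfl⟩ := QuotientGroup.mk'_surjective H z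
      have h1 : f (y * v * y⁻¹ * v⁻¹) = 1 :=
        (QuotientGroup.eq_one_iff _).mpr (hder (Subgroup.commutator_mem_commutator (mem_top y) (mem_top v)))
      rw [map_mul, map_mul, map_mul, map_inv, map_inv, mul_inv_eq_one] at h1
      rw [h1]; exact hz⟩
  have hle : Z.comap f ≤ H := CfsgLib.OddOrder.le_piCore hZn fun r hr hd => by
    have h1 : Nat.card (Z.comap f) * (Z.comap f).index = Nat.card H * H.index := by
      rw [Subgroup.card_mul_index, Subgroup.card_mul_index]
    rw [Subgroup.index_comap_of_surjective _ (QuotientGroup.mk'_surjective H), H.index_eq_card,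
      ← Z.card_mul_index, ← mul_assoc] at h1
    rw [Nat.eq_of_mul_eq_mul_right (Nat.pos_of_ne_zero Subgroup.index_ne_zero_of_finite) h1, Nat.card_zpowers, hx] at hd
    rcases hr.dvd_mul.mp hd with h2 | h2
    · exact hHp r hr h2
    · rw [(Nat.prime_dvd_prime_iff_eq hr hp).mp h2]; exact hpπ
  obtain ⟨v, hv⟩ := QuotientGroup.mk'_surjective H x
  have : v ∈ H := hle (show f v ∈ Z by rw [hv]; exact Subgroup.mem_zpowers x)
  rw [show x = 1 from hv ▸ (QuotientGroup.eq_one_iff v).mpr this, orderOf_one] at hx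
  exact hp.ne_one hx.symm

/-- Gruenberg–Kegel, solvable case, oriented. -/
theorem frobenius_or_two_frobenius [Group.IsSolvable G] (h : Sep π G)
    (hb : ∃ b ∉ π, b.Prime ∧ b ∣ Nat.card G) (hK0 : Cfsg.piCore π G ≠ ⊥) :
    (∃ C : Subgroup G, Cfsg.IsFrobeniusComplement C) ∨
    (∃ (H K : Subgroup G) (_ : H.Normal), K.Normal ∧ H < K ∧
      (∃ C : Subgroup ↥K, Cfsg.IsFrobeniusComplement C ∧ Cfsg.frobeniusKernel C = (H.subgroupOf K : Set ↥K)) ∧
      (∃ C : Subgroup (G ⧸ H), Cfsg.IsFrobeniusComplement C ∧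
        Cfsg.frobeniusKernel C = (K.map (QuotientGroup.mk' H) : Set (G ⧸ H)))) := by
  classical
  set K := Cfsg.piCore π G with hKdef
  haveI hKn : K.Normal := Cfsg.piCore_normal π G
  have hKp : Cfsg.IsPiSubgroup π K := CfsgLib.OddOrder.piCore_isPiSubgroup _ G
  set f := QuotientGroup.mk' K with hf
  have hfs : Function.Surjective f := QuotientGroup.mk'_surjective K
  obtain ⟨b, hbπ, hbp, hbd⟩ := hb
  have hbK : ¬ b ∣ Nat.card K := fun hd => hbπ (hKp b hbp hd)
  haveI hQnt : Nontrivial (G ⧸ K) := by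
    rw [← Finite.one_lt_card_iff_nontrivial, ← Subgroup.index_eq_card]
    refine lt_of_le_of_ne (Nat.one_le_iff_ne_zero.mpr Subgroup.index_ne_zero_of_finite) fun h1 => hbK ?_
    rwa [← K.card_mul_index, ← h1, mul_one] at hbd
  haveI : Group.IsSolvable (G ⧸ K) := Group.isSolvable_of_surjective hfs
  have hcore : Cfsg.piCore π (G ⧸ K) = ⊥ := CfsgLib.OddOrder.piCore_quotient_eq_bot K hKdef
  set Hb := Cfsg.piCore πᶜ (G ⧸ K) with hHb
  haveI : Hb.Normal := Cfsg.piCore_normal _ _
  have hHbne : Hb ≠ ⊥ := by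
    obtain ⟨p, hp, -, hcor⟩ := exists_piCore_ne_bot (G := G ⧸ K)
    by_cases hpπ : p ∈ π
    · exact absurd hcore (hcor π hpπ)
    · exact hcor πᶜ hpπ
  have hHbp : Cfsg.IsPiSubgroup πᶜ Hb := CfsgLib.OddOrder.piCore_isPiSubgroup _ _
  set L := Hb.comap f with hL
  haveI : L.Normal := inferInstance
  have hKL : K ≤ L := fun k hk => by
    change f k ∈ Hb
    rw [show f k = 1 from (QuotientGroup.eq_one_iff k).mpr hk]; exact one_mem _
  have hLmap : L.map f = Hb := Subgroup.map_comap_eq_self_of_surjective hfs Hb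
  have hrel : K.relIndex L = Nat.card Hb := by
    have h1 := Subgroup.card_map_dvd (H := L) f
    have h2 : (f.subgroupMap L).ker = K.subgroupOf L := by
      ext v
      rw [MonoidHom.mem_ker, mem_subgroupOf, Subtype.ext_iff]
      exact QuotientGroup.eq_one_iff (v : G)
    rw [← hLmap, Subgroup.relIndex, ← h2, Subgroup.index_eq_card]
    exact Nat.card_congr (QuotientGroup.quotientKerEquivOfSurjective _ (f.subgroupMap_surjective L)).toEquiv
  haveI : (K.subgroupOf L).Normal := inferInstance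
  obtain ⟨C, hC, hCF, hCk, hfpf⟩ := exists_frobenius (h.subgroup L) (K.subgroupOf L)
    (by rw [Ne, subgroupOf_eq_bot, disjoint_iff, inf_eq_left.mpr hKL]; exact hK0)
    (by
      intro h1
      rw [← Subgroup.index_eq_one] at h1
      exact hHbne (Subgroup.card_eq_one.mp (hrel ▸ h1)))
    (fun p hp hd => hKp p hp (by rwa [Nat.card_congr (subgroupOfEquivOfLe hKL).toEquiv] at hd))
    (fun p hp hd => hHbp p hp (hrel ▸ hd))
  by_cases hπq : ∃ a ∈ π, a.Prime ∧ a ∣ Nat.card (G ⧸ K)
  swap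
  · -- `G` itself is a Frobenius group
    push Not at hπq
    obtain ⟨C', -, hC', -⟩ := exists_frobenius h K hK0 (fun h1 => by
        rw [h1] at hbK
        exact hbK (by rwa [Subgroup.card_top]))
      hKp (fun p hp hd hpπ => hπq p hpπ hp (K.index_eq_card ▸ hd))
    exact Or.inl ⟨C', hC'⟩
  -- the Sylow subgroups of `Hb`
  let g : C →* G ⧸ K := f.comp (L.subtype.comp C.subtype)
  have hginj : Function.Injective g := by
    rw [injective_iff_map_eq_one]
    intro c hc
    refine Subtype.ext (Subgroup.disjoint_def.1 hC.disjoint ?_ c.2)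
    exact mem_subgroupOf.mpr ((QuotientGroup.eq_one_iff _).mp hc)
  have hgr : Hb ≤ g.range := by
    intro y hy
    obtain ⟨v, hv, rfl⟩ := hLmap.ge hy
    obtain ⟨⟨k, c⟩, hkc⟩ := hC.2 ⟨v, hv⟩
    refine ⟨c, ?_⟩
    change f ((c : L) : G) = f v
    have h1 : ((k : L) : G) * ((c : L) : G) = v := congrArg Subtype.val hkc
    rw [← h1, map_mul, show f ((k : L) : G) = 1 from (QuotientGroup.eq_one_iff _).mpr (mem_subgroupOf.mp k.2), one_mul]
  have hKLne : K.subgroupOf L ≠ ⊥ := by
    rw [Ne, subgroupOf_eq_bot, disjoint_iff, inf_eq_left.mpr hKL]; exact hK0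
  have hcyc : ∀ q : ℕ, q.Prime → ∀ S : Subgroup (G ⧸ K), IsPGroup q S → S ≤ Hb →
      (q ≠ 2 → IsCyclic S) ∧ (q = 2 → ∀ x ∈ S, ∀ y ∈ S, orderOf x = 2 → orderOf y = 2 → x = y) := by
    intro q hq S hS hSH
    haveI : Fact q.Prime := ⟨hq⟩
    have hP : IsPGroup q (S.comap g) := hS.comap_of_injective g hginj
    have huniq : ∀ x ∈ S, ∀ y ∈ S, orderOf x = q → orderOf y = q → y ∈ Subgroup.zpowers x := by
      intro x hx y hy hxo hyo
      obtain ⟨c, rfl⟩ := hgr (hSH hx)
      obtain ⟨d, rfl⟩ := hgr (hSH hy)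
      rw [orderOf_injective g hginj] at hxo hyo
      have h1 := CfsgLib.Frobenius.unique_subgroup_order_prime hC hKLne hfpf (S.comap g) hP
        (Subgroup.zpowers ⟨c, hx⟩) (Subgroup.zpowers ⟨d, hy⟩)
        (by rw [Nat.card_zpowers, ← Subgroup.orderOf_coe]; exact hxo)
        (by rw [Nat.card_zpowers, ← Subgroup.orderOf_coe]; exact hyo)
      obtain ⟨k, hk⟩ := Subgroup.mem_zpowers_iff.mp (h1.ge (Subgroup.mem_zpowers (⟨d, hy⟩ : S.comap g)))
      exact ⟨k, by
        change g c ^ k = g d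
        rw [← map_zpow]
        exact congrArg g (congrArg Subtype.val hk)⟩
    refine ⟨fun hq2 => CfsgLib.PGroup.isCyclic_of_unique_order_prime hq2 hS fun x y hx hx1 hy => ?_, fun hq2 x hx y hy hxo hyo => ?_⟩
    · by_cases hy1 : y = 1
      · rw [hy1]; exact one_mem _
      obtain ⟨k, hk⟩ := huniq x x.2 y y.2 (by rw [Subgroup.orderOf_coe]; exact orderOf_eq_prime hx hx1)
        (by rw [Subgroup.orderOf_coe]; exact orderOf_eq_prime hy hy1)
      exact ⟨k, Subtype.ext hk⟩
    · subst hq2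
      obtain ⟨k, hk⟩ := Subgroup.mem_zpowers_iff.mp (huniq x hx y hy hxo hyo)
      rcases Int.even_or_odd k with ⟨j, rfl⟩ | ⟨j, rfl⟩
      · exfalso
        rw [← two_mul, zpow_mul, show x ^ (2 : ℤ) = 1 by rw [zpow_ofNat, ← hxo, pow_orderOf_eq_one], one_zpow] at hk
        rw [← hk, orderOf_one] at hyo
        omega
      · rw [zpow_add, zpow_mul, show x ^ (2 : ℤ) = 1 by rw [zpow_ofNat, ← hxo, pow_orderOf_eq_one], one_zpow,
          one_mul, zpow_one] at hk
        exact hk
  have htop := top_step (h.quotient K) hπq hcore hcyc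
  obtain ⟨a, haπ, hap, had⟩ := hπq
  obtain ⟨C', -, hC', hC'k, -⟩ := exists_frobenius (h.quotient K).compl Hb hHbne
    (fun h1 => by
      have := hHbp a hap (by rw [h1, Subgroup.card_top]; exact had)
      exact this haπ)
    hHbp (fun p hp hd hpπ => hpπ (htop p hp hd))
  refine Or.inr ⟨K, L, hKn, inferInstance, lt_of_le_of_ne hKL fun h1 => hHbne ?_, ⟨C, hCF, hCk⟩, C', hC', ?_⟩
  · rw [← hLmap, ← h1, Subgroup.map_eq_bot_iff, QuotientGroup.ker_mk']
  · rw [hC'k, hLmap]

end CfsgLib.DisconnSolv
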