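import Mathlib
import Cfsg.Agent.Lib.PNilpotent.Basic
import Cfsg.Agent.Lib.NilpPerm.Bound

/-!
Minimal covers of a group by proper nilpotent subgroups: abelian Sylow subgroups.
-/

namespace CfsgLib.NilCover

open Subgroup

universe u

variable {G : Type u} [Group G]

/-- A cover of minimal size by proper subgroups, all of them nilpotent. -/
def IsNilCover (𝓐 : Finset (Subgroup G)) : Prop :=
  ((∀ A ∈ 𝓐, A ≠ ⊤) ∧ (∀ g : G, ∃ A ∈ 𝓐, g ∈ A)) ∧
    (∀ 𝓑 : Finset (Subgroup G), (∀ A ∈ 𝓑, A ≠ ⊤) ∧ (∀ g : G, ∃ A ∈ 𝓑, g ∈ A) → 𝓐.card ≤ 𝓑.card) ∧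
    (∀ A ∈ 𝓐, Group.IsNilpotent ↥A)

variable {𝓐 : Finset (Subgroup G)}

/-- Two different members are not both contained in a proper subgroup. -/
theorem IsNilCover.eq_of_le (h : IsNilCover 𝓐) {A B M : Subgroup G} (hA : A ∈ 𝓐) (hB : B ∈ 𝓐)
    (hM : M ≠ ⊤) (hAM : A ≤ M) (hBM : B ≤ M) : A = B := by
  classical
  by_contra hne
  have h1 := h.2.1 (insert M ((𝓐.erase A).erase B)) ⟨fun C hC => ?_, fun g => ?_⟩
  · have hc1 : ((𝓐.erase A).erase B).card = 𝓐.card - 2 := by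
      rw [Finset.card_erase_of_mem (Finset.mem_erase.mpr ⟨fun e => hne e.symm, hB⟩), Finset.card_erase_of_mem hA]
      omega
    have hc2 : 2 ≤ 𝓐.card := Finset.one_lt_card.mpr ⟨A, hA, B, hB, hne⟩
    have hc3 := Finset.card_insert_le M ((𝓐.erase A).erase B)
    omega
  · rcases Finset.mem_insert.mp hC with rfl | hC
    · exact hM
    · exact h.1.1 C (Finset.mem_of_mem_erase (Finset.mem_of_mem_erase hC))
  · obtain ⟨C, hC, hg⟩ := h.1.2 g
    by_cases hCA : C = A
    · exact ⟨M, Finset.mem_insert_self _ _, hAM (hCA ▸ hg)⟩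
    by_cases hCB : C = B
    · exact ⟨M, Finset.mem_insert_self _ _, hBM (hCB ▸ hg)⟩
    exact ⟨C, Finset.mem_insert_of_mem (Finset.mem_erase.mpr ⟨hCB, Finset.mem_erase.mpr ⟨hCA, hC⟩⟩), hg⟩

variable [Finite G] {p : ℕ} [Fact p.Prime]

theorem commute_pElements (P : Sylow p G) (hab : IsMulCommutative ↥(P : Subgroup G)) {A : Subgroup G}
    (hA : Group.IsNilpotent A) {x y : G} (hx : x ∈ A) (hy : y ∈ A) (hxp : ∃ k, orderOf x ∣ p ^ k) :
    Commute x y := by
  obtain ⟨a, b, hab', ⟨j, hj⟩, hcop⟩ := CfsgLib.PNilpotent.exists_pPart_decomp (p := p) (⟨y, hy⟩ : A)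
  obtain ⟨k, hk⟩ := hxp
  obtain ⟨S⟩ := (inferInstance : Nonempty (Sylow p A))
  haveI hSn : (S : Subgroup A).Normal :=
    ((Group.isNilpotent_of_finite_tfae (G := A)).out 0 3 rfl rfl).mp hA p ‹_› S
  haveI := Sylow.unique_of_normal S hSn
  have hmem : ∀ (c : A) (l : ℕ), orderOf c ∣ p ^ l → c ∈ (S : Subgroup A) := by
    intro c l hl
    obtain ⟨i, -, hi⟩ := (Nat.dvd_prime_pow Fact.out).mp hl
    obtain ⟨R, hR⟩ := (IsPGroup.of_card (p := p) (n := i) (by rw [Nat.card_zpowers, hi]) :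
      IsPGroup p (zpowers c)).exists_le_sylow
    exact (Subsingleton.elim R S : R = S) ▸ hR (mem_zpowers c)
  obtain ⟨Q, hQ⟩ := (S.isPGroup'.map A.subtype).exists_le_sylow
  obtain ⟨g, hg⟩ := MulAction.exists_smul_eq G P Q
  have hQc : ∀ u ∈ (Q : Subgroup G), ∀ v ∈ (Q : Subgroup G), u * v = v * u := by
    rw [← hg]
    rintro _ ⟨u, hu, rfl⟩ _ ⟨v, hv, rfl⟩
    change MulAut.conj g u * MulAut.conj g v = MulAut.conj g v * MulAut.conj g u
    rw [← map_mul, ← map_mul, setLike_mul_comm (s := (P : Subgroup G)) hu hv]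
  have hx' : (⟨x, hx⟩ : A) ∈ (S : Subgroup A) := hmem _ k (by rwa [← Subgroup.orderOf_coe])
  have h1 : Commute (⟨x, hx⟩ : A) (⟨y, hy⟩ ^ a) := Subtype.ext
    (hQc x (hQ ⟨_, hx', rfl⟩) _ (hQ ⟨_, hmem _ j hj.dvd, rfl⟩))
  have h2 : Commute (⟨x, hx⟩ : A) (⟨y, hy⟩ ^ b) := by
    haveI := hA
    refine CfsgLib.NilpPerm.commute_of_coprime_order ?_
    exact (hcop.symm.pow_left k).coprime_dvd_left (by rwa [← Subgroup.orderOf_coe])
  have := h1.mul_right h2
  rw [hab'] at this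
  exact congrArg Subtype.val this

theorem member_le_centralizer (h : IsNilCover 𝓐) (P : Sylow p G) (hab : IsMulCommutative ↥(P : Subgroup G))
    {A : Subgroup G} (hA : A ∈ 𝓐) {x : G} (hxA : x ∈ A) (hxp : ∃ k, orderOf x ∣ p ^ k) :
    A ≤ Subgroup.centralizer ({x} : Set G) := fun _ hy =>
  mem_centralizer_singleton_iff.mpr (commute_pElements P hab (h.2.2 A hA) hxA hy hxp).eq.symm

/-- A non-trivial `p`-element lies in a unique member. -/
theorem member_unique (hZ : Subgroup.center G = ⊥) (h : IsNilCover 𝓐) (P : Sylow p G)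
    (hab : IsMulCommutative ↥(P : Subgroup G)) {A B : Subgroup G} (hA : A ∈ 𝓐) (hB : B ∈ 𝓐) {x : G}
    (hx1 : x ≠ 1) (hxp : ∃ k, orderOf x ∣ p ^ k) (hxA : x ∈ A) (hxB : x ∈ B) : A = B := by
  refine h.eq_of_le hA hB (M := Subgroup.centralizer ({x} : Set G)) (fun htop => hx1 ?_)
    (member_le_centralizer h P hab hA hxA hxp) (member_le_centralizer h P hab hB hxB hxp)
  rw [← Subgroup.mem_bot, ← hZ, Subgroup.mem_center_iff]
  intro g
  exact mem_centralizer_singleton_iff.mp (htop.ge (mem_top g))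

theorem sylow_pElement (P : Sylow p G) {x : G} (hx : x ∈ (P : Subgroup G)) : ∃ k, orderOf x ∣ p ^ k := by
  obtain ⟨k, hk⟩ := P.isPGroup' ⟨x, hx⟩
  exact ⟨k, orderOf_dvd_of_pow_eq_one (congrArg Subtype.val hk)⟩

theorem exists_member_of_sylow (hZ : Subgroup.center G = ⊥) (h : IsNilCover 𝓐) (P : Sylow p G)
    (hab : IsMulCommutative ↥(P : Subgroup G))
    (hP : IsCyclic ↥(P : Subgroup G) ∨ ∃ u ∈ (P : Subgroup G), u ^ p ≠ 1) (hne : (P : Subgroup G) ≠ ⊥) :
    ∃ A ∈ 𝓐, (P : Subgroup G) ≤ A := by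
  rcases hP with hc | ⟨u, hu, hup⟩
  · obtain ⟨g, hg⟩ := hc.exists_generator
    obtain ⟨A, hA, hgA⟩ := h.1.2 (g : G)
    refine ⟨A, hA, fun x hx => ?_⟩
    obtain ⟨k, hk⟩ := Subgroup.mem_zpowers_iff.mp (hg ⟨x, hx⟩)
    rw [show x = (g : G) ^ k from (congrArg Subtype.val hk).symm]
    exact zpow_mem hgA k
  · obtain ⟨A, hA, huA⟩ := h.1.2 u
    have hv : u ^ p ∈ A := pow_mem huA p
    have huniq : ∀ B ∈ 𝓐, ∀ x ∈ (P : Subgroup G), x ≠ 1 → x ∈ A → x ∈ B → B = A := fun B hB x hx hx1 hxA hxB =>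
      member_unique hZ h P hab hB hA hx1 (sylow_pElement P hx) hxB hxA
    have hord : ∀ y ∈ (P : Subgroup G), y ^ p = 1 → y ∈ A := by
      intro y hy hy1
      obtain ⟨B, hB, hyB⟩ := h.1.2 (u * y)
      have h2 : (u * y) ^ p = u ^ p := by
        rw [Commute.mul_pow (setLike_mul_comm (s := (P : Subgroup G)) hu hy), hy1, mul_one]
      have hBA : B = A := huniq B hB _ (pow_mem hu p) hup hv (h2 ▸ pow_mem hyB p)
      have := mul_mem (inv_mem huA) (hBA ▸ hyB)
      rwa [inv_mul_cancel_left] at this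
    refine ⟨A, hA, fun y hy => ?_⟩
    by_cases hy1 : y = 1
    · rw [hy1]; exact one_mem A
    obtain ⟨B, hB, hyB⟩ := h.1.2 y
    obtain ⟨k, hk⟩ := sylow_pElement P hy
    obtain ⟨i, -, hi⟩ := (Nat.dvd_prime_pow (Fact.out : p.Prime)).mp hk
    have hi0 : i ≠ 0 := fun h0 => hy1 (orderOf_eq_one_iff.mp (by rw [hi, h0, pow_zero]))
    set z := y ^ p ^ (i - 1) with hz
    have hz1 : z ≠ 1 := fun hz0 => by
      have h3 := Nat.le_of_dvd (pow_pos (Fact.out : p.Prime).pos _) (orderOf_dvd_of_pow_eq_one hz0)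
      rw [hi] at h3
      have := (Nat.pow_le_pow_iff_right (Fact.out : p.Prime).one_lt).mp h3
      omega
    have hzp : z ^ p = 1 := by
      rw [hz, ← pow_mul, ← pow_succ, Nat.sub_add_cancel (Nat.one_le_iff_ne_zero.mpr hi0), ← hi, pow_orderOf_eq_one]
    have hzA := hord z (pow_mem hy _) hzp
    rw [← huniq B hB z (pow_mem hy _) hz1 hzA (pow_mem hyB _)]
    exact hyB

theorem main (hZ : Subgroup.center G = ⊥) (h : IsNilCover 𝓐) (P : Sylow p G)
    (hab : IsMulCommutative ↥(P : Subgroup G))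
    (hP : IsCyclic ↥(P : Subgroup G) ∨ ∃ u ∈ (P : Subgroup G), u ^ p ≠ 1)
    (hnn : ¬ (P : Subgroup G).Normal) :
    ∃ A ∈ 𝓐, (P : Subgroup G) ≤ A ∧ ¬ p ∣ ((P : Subgroup G).subgroupOf A).index ∧
      IsCoatom (Subgroup.normalizer ((P : Subgroup G) : Set G)) ∧
      (∀ g : G, g ∉ Subgroup.normalizer ((P : Subgroup G) : Set G) →
        ¬ p ∣ Nat.card ↥(Subgroup.normalizer ((P : Subgroup G) : Set G) ⊓
          (Subgroup.normalizer ((P : Subgroup G) : Set G)).map (MulAut.conj g).toMonoidHom)) ∧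
      Subgroup.centralizer ((P : Subgroup G) : Set G) = A ∧
      (∀ M : Subgroup G, M ≠ ⊤ → A ≤ M → M ≤ Subgroup.normalizer ((P : Subgroup G) : Set G)) := by
  have hne : (P : Subgroup G) ≠ ⊥ := fun hb => hnn (hb ▸ inferInstance)
  obtain ⟨A, hA, hPA⟩ := exists_member_of_sylow hZ h P hab hP hne
  obtain ⟨x₀, hx₀, hx₀1⟩ := (P : Subgroup G).bot_or_exists_ne_one.resolve_left hne
  have hAC : A ≤ Subgroup.centralizer ((P : Subgroup G) : Set G) := fun y hy =>
    mem_centralizer_iff.mpr fun x hx => (commute_pElements P hab (h.2.2 A hA) (hPA hx) hy (sylow_pElement P hx)).eq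
  -- every Sylow subgroup has its own member
  have hconj : ∀ g : G, ∃ B ∈ 𝓐, (P : Subgroup G).map (MulAut.conj g).toMonoidHom ≤ B := by
    intro g
    let e := ((P : Subgroup G).equivMapOfInjective (MulAut.conj g).toMonoidHom (MulAut.conj g).injective)
    have hab' : IsMulCommutative ↥((g • P : Sylow p G) : Subgroup G) := by
      change IsMulCommutative ↥((P : Subgroup G).map (MulAut.conj g).toMonoidHom)
      infer_instance
    refine exists_member_of_sylow hZ h (g • P) hab' ?_ ?_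
    · rcases hP with hc | ⟨u, hu, hup⟩
      · left
        change IsCyclic ↥((P : Subgroup G).map (MulAut.conj g).toMonoidHom)
        exact isCyclic_of_surjective e.toMonoidHom e.surjective
      · exact Or.inr ⟨MulAut.conj g u, ⟨u, hu, rfl⟩, fun h1 => hup ((MulAut.conj g).injective (by rw [map_pow, h1, map_one]))⟩
    · intro hb
      change (P : Subgroup G).map (MulAut.conj g).toMonoidHom = ⊥ at hb
      exact hne ((map_eq_bot_iff_of_injective _ (MulAut.conj g).injective).mp hb)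
  -- `P` is a TI subgroup
  have hTI : ∀ g : G, ∀ x ∈ (P : Subgroup G), x ≠ 1 → x ∈ (P : Subgroup G).map (MulAut.conj g).toMonoidHom →
      g ∈ Subgroup.normalizer ((P : Subgroup G) : Set G) := by
    intro g x hx hx1 hxg
    obtain ⟨B, hB, hPB⟩ := hconj g
    rw [member_unique hZ h P hab hB hA hx1 (sylow_pElement P hx) (hPB hxg) (hPA hx)] at hPB
    rw [Subgroup.mem_normalizer_iff_map_conj_eq]
    refine eq_of_le_of_card_ge ?_ (card_map_of_injective (MulAut.conj g).injective).ge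
    intro w hw
    have hwA : w ∈ A := hPB hw
    obtain ⟨k, hk⟩ := sylow_pElement (g • P) hw
    have hcw : ∀ u ∈ (P : Subgroup G), u * w = w * u := fun u hu => mem_centralizer_iff.mp (hAC hwA) u hu
    -- `P ⟨w⟩` is a `p`-group
    have hwN : Subgroup.zpowers w ≤ Subgroup.normalizer ((P : Subgroup G) : Set G) := by
      rw [Subgroup.zpowers_le]
      exact Subgroup.centralizer_le_normalizer _ (hAC hwA)
    obtain ⟨i, -, hi⟩ := (Nat.dvd_prime_pow (Fact.out : p.Prime)).mp hk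
    have hp2 : IsPGroup p ↥((P : Subgroup G) ⊔ Subgroup.zpowers w) :=
      P.isPGroup'.to_sup_of_normal_left' (IsPGroup.of_card (n := i) (by rw [Nat.card_zpowers, hi])) hwN
    exact (P.is_maximal' hp2 le_sup_left).le (mem_sup_right (Subgroup.mem_zpowers w))
  have hPnorm : ∀ y ∈ Subgroup.normalizer ((P : Subgroup G) : Set G), (∃ k, orderOf y ∣ p ^ k) → y ∈ (P : Subgroup G) := by
    intro y hy ⟨k, hk⟩
    obtain ⟨i, -, hi⟩ := (Nat.dvd_prime_pow (Fact.out : p.Prime)).mp hk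
    have hp2 : IsPGroup p ↥((P : Subgroup G) ⊔ Subgroup.zpowers y) :=
      P.isPGroup'.to_sup_of_normal_left' (IsPGroup.of_card (n := i) (by rw [Nat.card_zpowers, hi]))
        (Subgroup.zpowers_le.mpr hy)
    exact (P.is_maximal' hp2 le_sup_left).le (mem_sup_right (Subgroup.mem_zpowers y))
  have hle : ∀ M : Subgroup G, M ≠ ⊤ → A ≤ M → M ≤ Subgroup.normalizer ((P : Subgroup G) : Set G) := by
    intro M hM hAM m hm
    obtain ⟨B, hB, hPB⟩ := hconj m
    refine hTI m⁻¹ x₀ hx₀ hx₀1 ?_ |> fun h1 => by simpa using inv_mem h1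
    -- `B` lies in `M`
    have hBM : B = A := by
      have hsmall : ∀ y ∈ B, y ∈ Subgroup.centralizer ((P : Subgroup G).map (MulAut.conj m).toMonoidHom : Set G) :=
        fun y hy => mem_centralizer_iff.mpr fun w hw =>
          (commute_pElements P hab (h.2.2 B hB) (hPB hw) hy (sylow_pElement (m • P) hw)).eq
      refine h.eq_of_le hB hA hM (fun y hy => ?_) hAM
      -- the centraliser of `P` is `A`
      obtain ⟨C, hC, hyC⟩ := h.1.2 (m⁻¹ * y * m)
      have hcent : m⁻¹ * y * m ∈ Subgroup.centralizer ((P : Subgroup G) : Set G) := by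
        rw [mem_centralizer_iff]
        intro u hu
        have := mem_centralizer_iff.mp (hsmall y hy) _ ⟨u, hu, rfl⟩
        simp only [MulEquiv.coe_toMonoidHom, MulAut.conj_apply] at this
        calc u * (m⁻¹ * y * m) = m⁻¹ * ((m * u * m⁻¹) * y) * m := by group
          _ = m⁻¹ * (y * (m * u * m⁻¹)) * m := by rw [this]
          _ = _ := by group
      have hmem : m⁻¹ * y * m ∈ A := by
        obtain ⟨a, b, hab', ⟨j, hj⟩, hcop⟩ := CfsgLib.PNilpotent.exists_pPart_decomp (p := p) (m⁻¹ * y * m)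
        rw [← hab']
        refine mul_mem (hPA (hPnorm _ (pow_mem (centralizer_le_normalizer _ hcent) a) ⟨j, hj.dvd⟩)) ?_
        obtain ⟨D, hD, hD'⟩ := h.1.2 (x₀ * (m⁻¹ * y * m) ^ b)
        have hxc : Commute x₀ ((m⁻¹ * y * m) ^ b) := (mem_centralizer_iff.mp (pow_mem hcent b) x₀ hx₀)
        obtain ⟨k, hk⟩ := sylow_pElement P hx₀
        obtain ⟨c, hc⟩ := exists_pow_eq_self_of_coprime (x := x₀) (n := orderOf ((m⁻¹ * y * m) ^ b))
          ((hcop.symm.pow_left k).coprime_dvd_left hk).symm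
        have hx₀D : x₀ ∈ D := by
          have := pow_mem (pow_mem hD' (orderOf ((m⁻¹ * y * m) ^ b))) c
          rwa [hxc.mul_pow, pow_orderOf_eq_one, mul_one, hc] at this
        have hDA := member_unique hZ h P hab hD hA hx₀1 (sylow_pElement P hx₀) hx₀D (hPA hx₀)
        have := mul_mem (inv_mem (hPA hx₀)) (hDA ▸ hD')
        rwa [inv_mul_cancel_left] at this
      have := M.mul_mem (M.mul_mem hm (hAM hmem)) (M.inv_mem hm)
      simpa [mul_assoc] using this
    refine ⟨MulAut.conj m x₀, ?_, by simp [mul_assoc]⟩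
    rw [hBM] at hPB
    exact hPnorm _ (Subgroup.centralizer_le_normalizer _ (hAC (hPB ⟨x₀, hx₀, rfl⟩)))
      (sylow_pElement (m • P) ⟨x₀, hx₀, rfl⟩)
  have hCA : Subgroup.centralizer ((P : Subgroup G) : Set G) = A := by
    refine le_antisymm (fun y hy => ?_) hAC
    obtain ⟨a, b, hab', ⟨j, hj⟩, hcop⟩ := CfsgLib.PNilpotent.exists_pPart_decomp (p := p) y
    rw [← hab']
    refine mul_mem (hPA (hPnorm _ (pow_mem (centralizer_le_normalizer _ hy) a) ⟨j, hj.dvd⟩)) ?_
    obtain ⟨D, hD, hD'⟩ := h.1.2 (x₀ * y ^ b)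
    have hxc : Commute x₀ (y ^ b) := (mem_centralizer_iff.mp (pow_mem hy b) x₀ hx₀)
    obtain ⟨k, hk⟩ := sylow_pElement P hx₀
    obtain ⟨c, hc⟩ := exists_pow_eq_self_of_coprime (x := x₀) (n := orderOf (y ^ b))
      ((hcop.symm.pow_left k).coprime_dvd_left hk).symm
    have hx₀D : x₀ ∈ D := by
      have := pow_mem (pow_mem hD' (orderOf (y ^ b))) c
      rwa [hxc.mul_pow, pow_orderOf_eq_one, mul_one, hc] at this
    have hDA := member_unique hZ h P hab hD hA hx₀1 (sylow_pElement P hx₀) hx₀D (hPA hx₀)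
    have := mul_mem (inv_mem (hPA hx₀)) (hDA ▸ hD')
    rwa [inv_mul_cancel_left] at this
  refine ⟨A, hA, hPA, ?_, ?_, ?_, hCA, hle⟩
  · intro hd
    exact P.not_dvd_index (hd.trans (Subgroup.relIndex_dvd_index_of_le hPA |>.trans dvd_rfl))
  · refine ⟨fun htop => hnn (Subgroup.normalizer_eq_top_iff.mp htop), fun M hM => ?_⟩
    by_contra hMt
    exact hM.not_ge (hle M hMt (hAC.trans ((centralizer_le_normalizer _).trans hM.le)))
  · intro g hg hd
    obtain ⟨y, hy⟩ := exists_prime_orderOf_dvd_card' p hd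
    have hy1 : (y : G) ≠ 1 := fun e => by
      rw [← Subgroup.orderOf_coe, e, orderOf_one] at hy; exact (Fact.out : p.Prime).ne_one hy.symm
    have hyo : ∃ k, orderOf (y : G) ∣ p ^ k := ⟨1, by rw [Subgroup.orderOf_coe, hy, pow_one]⟩
    obtain ⟨hy1', w, hw, hwy⟩ := mem_inf.mp y.2
    refine hg (hTI g y (hPnorm _ hy1' hyo) hy1 ⟨w, hPnorm w hw ?_, hwy⟩)
    rw [← MulEquiv.orderOf_eq (MulAut.conj g) w]
    exact hwy ▸ hyo

end CfsgLib.NilCover
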