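import Mathlib
import Cfsg.Prelude.Def_Transfer
import Cfsg.Agent.Lib.PNilpotent.Basic

/-!
Irreducible actions of a group of prime order on an elementary abelian group; minimal normal complements of `p`-groups.
-/

namespace CfsgLib.PNilpotent

open Subgroup

/-- A finite domain of characteristic `q` containing an element of prime order `p` fixed by no smaller Frobenius power,
all of whose elements are fixed by `x ↦ x ^ (q ^ e)`, has `q ^ e` elements. -/
theorem card_domain_eq {R : Type*} [CommRing R] [IsDomain R] [Finite R] {p q : ℕ} [Fact p.Prime] [Fact q.Prime]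
    [CharP R q] (S : R) (hS : orderOf S = p) (he0 : 0 < orderOf (q : ZMod p))
    (hfix : ∀ f : R, f ^ q ^ orderOf (q : ZMod p) = f) : Nat.card R = q ^ orderOf (q : ZMod p) := by
  classical
  have hp : p.Prime := Fact.out
  have hq : q.Prime := Fact.out
  letI := Fintype.ofFinite R
  letI := Fintype.fieldOfDomain R
  obtain ⟨d, -, hd⟩ := FiniteField.card R q
  rw [Nat.card_eq_fintype_card, hd]
  congr 1
  refine le_antisymm ?_ (Nat.le_of_dvd d.pos ?_)
  · have hne : (Polynomial.X ^ q ^ orderOf (q : ZMod p) - Polynomial.X : Polynomial R) ≠ 0 :=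
      FiniteField.X_pow_card_pow_sub_X_ne_zero R he0.ne' hq.one_lt
    have hle : Fintype.card R ≤ q ^ orderOf (q : ZMod p) := by
      rw [← Finset.card_univ, ← FiniteField.X_pow_card_pow_sub_X_natDegree_eq R he0.ne' hq.one_lt]
      refine Polynomial.card_le_degree_of_subset_roots ?_
      intro f _
      rw [Polynomial.mem_roots hne]
      simp [hfix f]
    rw [hd] at hle
    exact (Nat.pow_le_pow_iff_right hq.one_lt).mp hle
  · rw [orderOf_dvd_iff_pow_eq_one]
    have h1 : p ∣ q ^ (d : ℕ) - 1 := by
      rw [← hS, ← hd, orderOf_dvd_iff_pow_eq_one]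
      refine FiniteField.pow_card_sub_one_eq_one S ?_
      intro h0
      have h2 := pow_orderOf_eq_one S
      rw [hS, h0, zero_pow hp.ne_zero] at h2
      exact zero_ne_one h2
    have h2 := (ZMod.natCast_eq_zero_iff _ _).mpr h1
    rw [Nat.cast_sub (Nat.one_le_pow _ _ hq.pos), Nat.cast_pow, Nat.cast_one, sub_eq_zero] at h2
    exact h2

/-- An irreducible automorphism of prime order `p` of an elementary abelian `q`-group: the order is `q ^ e`. -/
theorem card_of_irreducible {A : Type*} [CommGroup A] [Finite A] {p q : ℕ} [Fact p.Prime] (hq : q.Prime)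
    (hpq : q ≠ p) (hexp : ∀ a : A, a ^ q = 1) (σ : MulAut A) (hσp : σ ^ p = 1) (hσ : σ ≠ 1)
    (hirr : ∀ B : Subgroup A, (∀ b ∈ B, σ b ∈ B) → B = ⊥ ∨ B = ⊤) :
    Nat.card A = q ^ orderOf (q : ZMod p) := by
  have hp : p.Prime := Fact.out
  let s : AddMonoid.End (Additive A) :=
    { toFun := fun a => Additive.ofMul (σ a.toMul)
      map_zero' := by simp
      map_add' := fun a b => by simp }
  let R := Subring.closure ({s} : Set (AddMonoid.End (Additive A)))
  letI : CommRing R :=
    { (inferInstance : Ring R) with
      mul_comm := fun a b => by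
        have h1 : R ≤ Subring.centralizer ({s} : Set (AddMonoid.End (Additive A))) := by
          rw [Subring.closure_le]
          intro x hx
          rw [Set.mem_singleton_iff.mp hx, SetLike.mem_coe, Subring.mem_centralizer_iff]
          intro g hg
          rw [Set.mem_singleton_iff.mp hg]
        have h2 : R ≤ Subring.centralizer (R : Set (AddMonoid.End (Additive A))) := by
          rw [Subring.closure_le]
          intro x hx
          rw [Set.mem_singleton_iff.mp hx, SetLike.mem_coe, Subring.mem_centralizer_iff]
          intro y hy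
          exact (Subring.mem_centralizer_iff.mp (h1 hy) s rfl).symm
        exact Subtype.ext ((Subring.mem_centralizer_iff.mp (h2 a.2) b b.2).symm) }
  have hcomm : ∀ (f : R) (a : A), (f : AddMonoid.End (Additive A)) (Additive.ofMul (σ a)) =
      s ((f : AddMonoid.End (Additive A)) (Additive.ofMul a)) := by
    intro f a
    exact congrArg (fun g : AddMonoid.End (Additive A) => g (Additive.ofMul a))
      (congrArg Subtype.val (mul_comm f ⟨s, Subring.subset_closure rfl⟩) :
        (f : AddMonoid.End (Additive A)) * s = s * f)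
  -- a non-zero element of `R` is injective
  have hinj : ∀ f : R, f ≠ 0 → Function.Injective (f : AddMonoid.End (Additive A)) := by
    intro f hf
    let K : Subgroup A :=
      { carrier := {a | (f : AddMonoid.End (Additive A)) (Additive.ofMul a) = 0}
        one_mem' := by simp
        mul_mem' := fun {a b} ha hb => by
          simp only [Set.mem_ofPred_eq, ofMul_mul, map_add] at ha hb ⊢
          rw [ha, hb, add_zero]
        inv_mem' := fun {a} ha => by
          simp only [Set.mem_ofPred_eq, ofMul_inv, map_neg] at ha ⊢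
          rw [ha, neg_zero] }
    rcases hirr K (fun a ha => by
      have ha' : (f : AddMonoid.End (Additive A)) (Additive.ofMul a) = 0 := ha
      change (f : AddMonoid.End (Additive A)) (Additive.ofMul (σ a)) = 0
      rw [hcomm, ha', map_zero]) with h | h
    · rw [injective_iff_map_eq_zero]
      intro a ha
      have : a.toMul ∈ K := ha
      rw [h, mem_bot] at this
      exact Additive.toMul.injective this
    · exfalso
      apply hf
      refine Subtype.ext (AddMonoidHom.ext fun a => ?_)
      exact (h ▸ mem_top a.toMul : a.toMul ∈ K)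
  haveI : Finite R := Finite.of_injective (fun f : R => ((f : AddMonoid.End (Additive A)) : Additive A → Additive A))
    (fun f g h => Subtype.ext (DFunLike.coe_injective h))
  have hσa : ∃ a : A, σ a ≠ a := by
    by_contra hcon
    push Not at hcon
    exact hσ (MulEquiv.ext hcon)
  obtain ⟨a₀, ha₀⟩ := hσa
  have ha₀1 : a₀ ≠ 1 := fun h => ha₀ (by rw [h, map_one])
  haveI : Nontrivial R := ⟨⟨0, 1, fun h => by
    have h1 := congrArg (fun f : R => (f : AddMonoid.End (Additive A)) (Additive.ofMul a₀)) h
    exact ha₀1 (Additive.ofMul.injective h1.symm)⟩⟩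
  haveI : NoZeroDivisors R := ⟨fun {f g} h => by
    by_contra hcon
    push Not at hcon
    refine hcon.2 (Subtype.ext (AddMonoidHom.ext fun a => hinj f hcon.1 ?_))
    have h1 := congrArg (fun f : R => (f : AddMonoid.End (Additive A)) a) h
    exact h1.trans (map_zero _).symm⟩
  haveI : IsDomain R := NoZeroDivisors.to_isDomain R
  haveI : Fact q.Prime := ⟨hq⟩
  haveI : CharP R q := by
    have hq0 : (q : R) = 0 := by
      refine Subtype.ext (AddMonoidHom.ext fun a => ?_)
      change ((q : AddMonoid.End (Additive A))) a = 0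
      rw [AddMonoid.End.natCast_apply]
      exact hexp a.toMul
    exact CharP.charP_iff_prime_eq_zero hq |>.mpr hq0
  -- evaluation at `a₀`
  let ev : R → A := fun f => ((f : AddMonoid.End (Additive A)) (Additive.ofMul a₀)).toMul
  have hev : Function.Bijective ev := by
    refine ⟨fun f g h => ?_, ?_⟩
    · by_contra hne
      have h1 := hinj (f - g) (sub_ne_zero.mpr hne)
      refine ha₀1 (Additive.ofMul.injective (h1 (a₁ := Additive.ofMul a₀) (a₂ := 0) ?_))
      rw [map_zero]
      change (f : AddMonoid.End (Additive A)) (Additive.ofMul a₀) - (g : AddMonoid.End (Additive A)) (Additive.ofMul a₀) = 0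
      exact sub_eq_zero.mpr (Additive.toMul.injective h)
    · let B : Subgroup A :=
        { carrier := Set.range ev
          one_mem' := ⟨0, rfl⟩
          mul_mem' := by
            rintro _ _ ⟨f, rfl⟩ ⟨g, rfl⟩
            exact ⟨f + g, rfl⟩
          inv_mem' := by
            rintro _ ⟨f, rfl⟩
            exact ⟨-f, rfl⟩ }
      rcases hirr B (by
        rintro _ ⟨f, rfl⟩
        exact ⟨⟨s, Subring.subset_closure rfl⟩ * f, rfl⟩) with h | h
      · exact absurd (mem_bot.mp (h ▸ (⟨1, rfl⟩ : a₀ ∈ B))) ha₀1
      · intro a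
        exact (h ▸ mem_top a : a ∈ B)
  rw [← Nat.card_eq_of_bijective ev hev]
  set S : R := ⟨s, Subring.subset_closure rfl⟩ with hS
  have hspow : ∀ (k : ℕ) (a : Additive A), (s ^ k) a = Additive.ofMul ((σ ^ k) a.toMul) := by
    intro k
    induction k with
    | zero => intro a; simp
    | succ k ih =>
      intro a
      rw [pow_succ', pow_succ', AddMonoid.End.coe_mul, Function.comp_apply, ih, MulAut.mul_apply]
      rfl
  have hSp : S ^ p = 1 := by
    refine Subtype.ext (AddMonoidHom.ext fun a => ?_)
    change (s ^ p) a = a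
    rw [hspow, hσp]
    rfl
  have hS1 : S ≠ 1 := by
    intro h
    have h1 := congrArg (fun f : R => (f : AddMonoid.End (Additive A)) (Additive.ofMul a₀)) h
    exact ha₀ (Additive.ofMul.injective h1)
  have hordS : orderOf S = p := orderOf_eq_prime hSp hS1
  set e := orderOf (q : ZMod p) with he
  have hunit : IsUnit (q : ZMod p) := (ZMod.isUnit_iff_coprime _ _).mpr ((Nat.coprime_primes hq hp).mpr hpq)
  have he0 : 0 < e := hunit.isOfFinOrder.orderOf_pos
  have hqe : q ^ e ≡ 1 [MOD p] := by
    rw [← ZMod.natCast_eq_natCast_iff, Nat.cast_pow, Nat.cast_one]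
    exact pow_orderOf_eq_one _
  -- the Frobenius power fixes everything
  have hfix : ∀ f : R, f ^ q ^ e = f := by
    intro f
    let F : Subring R := RingHom.eqLocus (iterateFrobenius R q e) (RingHom.id R)
    have hmem : S ∈ F := by
      change iterateFrobenius R q e S = S
      rw [iterateFrobenius_def, ← pow_mod_orderOf, hordS, show q ^ e % p = 1 % p from hqe,
        Nat.one_mod_eq_one.mpr hp.ne_one, pow_one]
    have hle : R ≤ F.map R.subtype := by
      rw [Subring.closure_le]
      intro x hx
      rw [Set.mem_singleton_iff.mp hx]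
      exact ⟨S, hmem, rfl⟩
    obtain ⟨g, hg, hgf⟩ := hle f.2
    obtain rfl : g = f := Subtype.ext hgf
    exact hg
  exact card_domain_eq S hordS he0 hfix

variable {G : Type*} [Group G] [Finite G]

/-- A minimal normal elementary abelian subgroup of prime index `p`, not central. -/
theorem card_minimal_normal_prime_index {p q : ℕ} [Fact p.Prime] (hq : q.Prime) (hpq : q ≠ p)
    (A : Subgroup G) [A.Normal] (hA : Cfsg.IsElementaryAbelian q A) (hidx : A.index = p)
    (hnc : ¬ A ≤ center G) (hmin : ∀ B : Subgroup G, B.Normal → B ≤ A → B = ⊥ ∨ B = A) :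
    Nat.card A = q ^ orderOf (q : ZMod p) := by
  have hp : p.Prime := Fact.out
  letI : CommGroup A := { (inferInstance : Group A) with mul_comm := hA.1.is_comm.comm }
  have hAc : A ≤ centralizer (A : Set G) := fun a ha => mem_centralizer_iff.mpr fun b hb =>
    congrArg Subtype.val (hA.1.is_comm.comm ⟨b, hb⟩ ⟨a, ha⟩)
  have hmax : ∀ K : Subgroup G, A ≤ K → K = A ∨ K = ⊤ := by
    intro K hK
    have h1 := relIndex_mul_index hK
    rw [hidx] at h1
    rcases (Nat.dvd_prime hp).mp (Dvd.intro_left _ h1) with h | h
    · exact Or.inr (index_eq_one.mp h)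
    · left
      rw [h] at h1
      have h2 : A.relIndex K = 1 := Nat.eq_of_mul_eq_mul_right hp.pos (h1.trans (one_mul p).symm)
      exact le_antisymm (relIndex_eq_one.mp h2) hK
  obtain ⟨x, hx⟩ : ∃ x, x ∉ centralizer (A : Set G) := by
    by_contra hcon
    push Not at hcon
    exact hnc fun a ha => mem_center_iff.mpr fun g => (mem_centralizer_iff.mp (hcon g) a ha).symm
  refine card_of_irreducible hq hpq (fun a => Subtype.ext (hA.2 _ a.2)) (MulAut.conjNormal x) ?_ ?_ ?_
  · rw [← map_pow]
    refine MulEquiv.ext fun a => Subtype.ext ?_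
    rw [MulAut.conjNormal_apply]
    have hxp : x ^ p ∈ A := by
      rw [← hidx]
      exact A.pow_index_mem x
    change x ^ p * (a : G) * (x ^ p)⁻¹ = a
    rw [← mem_centralizer_iff.mp (hAc hxp) a a.2, mul_inv_cancel_right]
  · intro h
    refine hx (mem_centralizer_iff.mpr fun a ha => ?_)
    have h1 := congrArg (fun f : MulAut A => ((f ⟨a, ha⟩ : A) : G)) h
    simp only [MulAut.conjNormal_apply, MulAut.one_apply] at h1
    exact (mul_inv_eq_iff_eq_mul.mp h1).symm
  · intro B hB
    have hBA : B.map A.subtype ≤ A := map_subtype_le B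
    have hn : (B.map A.subtype).Normal := by
      rw [← normalizer_eq_top_iff]
      have hAN : A ≤ Subgroup.normalizer ((B.map A.subtype : Subgroup G) : Set G) :=
        hAc.trans ((centralizer_le hBA).trans (centralizer_le_normalizer _))
      have hxN : x ∈ Subgroup.normalizer ((B.map A.subtype : Subgroup G) : Set G) := by
        rw [mem_normalizer_iff_conj_image_eq]
        refine Set.eq_of_subset_of_ncard_le ?_
          (le_of_eq (Set.ncard_image_of_injective _ (MulAut.conj x).injective).symm) (Set.toFinite _)
        rintro _ ⟨_, ⟨b, hb, rfl⟩, rfl⟩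
        exact ⟨_, hB b hb, by simp [MulAut.conjNormal_apply]⟩
      rcases hmax _ hAN with h | h
      · exact absurd (hAc (h ▸ hxN)) hx
      · exact h
    rcases hmin _ hn hBA with h | h
    · left
      rwa [map_eq_bot_iff_of_injective _ A.subtype_injective] at h
    · right
      apply map_injective A.subtype_injective
      rw [h, ← MonoidHom.range_eq_map, range_subtype]

/-- A minimal normal `q`-subgroup is elementary abelian. -/
theorem isElementaryAbelian_of_minimal {q : ℕ} [Fact q.Prime] (A : Subgroup G) [A.Normal]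
    (hA : IsPGroup q A) (hne : A ≠ ⊥) (hmin : ∀ B : Subgroup G, B.Normal → B ≤ A → B = ⊥ ∨ B = A) :
    Cfsg.IsElementaryAbelian q A := by
  have hchar : ∀ B : Subgroup A, B.Characteristic → B = ⊥ ∨ B = ⊤ := by
    intro B hB
    rcases hmin _ (inferInstance : (B.map A.subtype).Normal) (map_subtype_le B) with h | h
    · left
      rwa [map_eq_bot_iff_of_injective _ A.subtype_injective] at h
    · right
      apply map_injective A.subtype_injective
      rw [h, ← MonoidHom.range_eq_map, range_subtype]
  haveI : Nontrivial A := (nontrivial_iff_ne_bot A).mpr hne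
  have hc : center A = ⊤ := (hchar _ inferInstance).resolve_left (fun h => by
    haveI := hA.center_nontrivial
    exact (nontrivial_iff_ne_bot _).mp this h)
  have hcom : IsMulCommutative A := center_eq_top_iff.mp hc
  refine ⟨hcom, fun a ha => ?_⟩
  let T : Subgroup A :=
    { carrier := {a | a ^ q = 1}
      one_mem' := one_pow _
      mul_mem' := fun {a b} ha hb => by
        simp only [Set.mem_ofPred_eq] at ha hb ⊢
        rw [Commute.mul_pow (hcom.is_comm.comm a b), ha, hb, one_mul]
      inv_mem' := fun {a} ha => by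
        simp only [Set.mem_ofPred_eq] at ha ⊢
        rw [inv_pow, ha, inv_one] }
  have hT : T.Characteristic := by
    refine characteristic_iff_map_le.mpr fun f => ?_
    rintro _ ⟨x, hx, rfl⟩
    change f x ^ q = 1
    rw [← map_pow, show x ^ q = 1 from hx, map_one]
  rcases hchar T hT with h | h
  · exfalso
    obtain ⟨n, hn0, hn⟩ := hA.nontrivial_iff_card.mp inferInstance
    obtain ⟨x, hx⟩ := exists_prime_orderOf_dvd_card' q (hn ▸ dvd_pow_self q (by omega))
    have : x ∈ T := by
      change x ^ q = 1
      rw [← hx, pow_orderOf_eq_one]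
    rw [h, mem_bot] at this
    exact (Fact.out : q.Prime).ne_one (by rw [← hx, this, orderOf_one])
  · have h1 : (⟨a, ha⟩ : A) ∈ T := h ▸ mem_top _
    exact congrArg Subtype.val h1

/-- If a Sylow `p`-subgroup centralises every proper subgroup of the normal `p`-complement `A` that it normalises, but
not `A`, then `A` is a `q`-group. -/
theorem exists_prime_isPGroup_of_centralizes {p : ℕ} [Fact p.Prime] (A : Subgroup G) [A.Normal]
    (hAp : ¬ p ∣ Nat.card A) (P : Sylow p G) (hsup : A ⊔ (P : Subgroup G) = ⊤)
    (hc : ∀ (R : Sylow p G) (Q : Subgroup G), Q ≤ A → Q ≠ A →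
      (R : Subgroup G) ≤ Subgroup.normalizer (Q : Set G) → (R : Subgroup G) ≤ centralizer (Q : Set G))
    (hno : ¬ A ≤ centralizer ((P : Subgroup G) : Set G)) : ∃ q : ℕ, q.Prime ∧ q ≠ p ∧ IsPGroup q A := by
  have hp : p.Prime := Fact.out
  by_contra hcon
  push Not at hcon
  apply hno
  set C := A ⊓ centralizer ((P : Subgroup G) : Set G) with hC
  suffices hCA : Nat.card A ≤ Nat.card C from (eq_of_le_of_card_ge inf_le_left hCA).ge.trans inf_le_right
  refine Nat.le_of_dvd Nat.card_pos ((Nat.factorization_prime_le_iff_dvd Nat.card_pos.ne' Nat.card_pos.ne').mp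
    fun q hq => ?_)
  by_cases hqd : q ∣ Nat.card A
  swap
  · rw [Nat.factorization_eq_zero_of_not_dvd hqd]; exact Nat.zero_le _
  have hqp : q ≠ p := fun h => hAp (h ▸ hqd)
  haveI : Fact q.Prime := ⟨hq⟩
  obtain ⟨Q⟩ := (inferInstance : Nonempty (Sylow q A))
  set Q' := (Q : Subgroup A).map A.subtype with hQ'
  have hfr := Sylow.normalizer_sup_eq_top Q
  -- the normaliser contains a Sylow subgroup
  have hidx : ¬ p ∣ (Subgroup.normalizer (Q' : Set G)).index := by
    intro hd
    have h1 : (Subgroup.normalizer (Q' : Set G)).relIndex A = (Subgroup.normalizer (Q' : Set G)).index := by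
      have h2 := relIndex_mul_relIndex (Subgroup.normalizer (Q' : Set G) ⊓ A)
        (Subgroup.normalizer (Q' : Set G)) ⊤ inf_le_left le_top
      have h3 := relIndex_mul_relIndex (Subgroup.normalizer (Q' : Set G) ⊓ A) A ⊤ inf_le_right le_top
      rw [inf_relIndex_left, relIndex_top_right] at h2
      rw [inf_relIndex_right, relIndex_top_right] at h3
      have h4 : A.relIndex (Subgroup.normalizer (Q' : Set G)) = A.index := by
        rw [← relIndex_sup_right, hfr, relIndex_top_right]
      rw [h4] at h2
      rw [← h2, mul_comm A.index] at h3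
      exact Nat.eq_of_mul_eq_mul_right (Nat.pos_of_ne_zero index_ne_zero_of_finite) h3
    exact hAp (hd.trans (h1 ▸ relIndex_dvd_card _ _))
  obtain ⟨S⟩ := (inferInstance : Nonempty (Sylow p (Subgroup.normalizer (Q' : Set G))))
  obtain ⟨R, hR⟩ := (S.isPGroup'.map (Subgroup.normalizer (Q' : Set G)).subtype).exists_le_sylow
  have hRN : (R : Subgroup G) ≤ Subgroup.normalizer (Q' : Set G) := by
    have hcard : Nat.card (R : Subgroup G) ≤
        Nat.card ((S : Subgroup (Subgroup.normalizer (Q' : Set G))).map (Subgroup.normalizer (Q' : Set G)).subtype) := by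
      rw [card_map_of_injective (Subgroup.normalizer (Q' : Set G)).subtype_injective, S.card_eq_multiplicity,
        R.card_eq_multiplicity, ← (Subgroup.normalizer (Q' : Set G)).card_mul_index,
        Nat.factorization_mul Nat.card_pos.ne' index_ne_zero_of_finite, Finsupp.add_apply,
        Nat.factorization_eq_zero_of_not_dvd hidx, add_zero]
    rw [← eq_of_le_of_card_ge hR hcard]
    exact map_subtype_le _
  have hQne : Q' ≠ A := by
    intro h
    exact hcon q hq hqp (h ▸ Q.isPGroup'.map A.subtype)
  have hcent := hc R Q' (map_subtype_le _) hQne hRN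
  obtain ⟨w, rfl⟩ := MulAction.exists_smul_eq G P R
  -- move by an element of `A`
  obtain ⟨a, ha, b, hb, rfl⟩ := (mem_sup_of_normal_left).mp (hsup ▸ mem_top w)
  have hle : Q'.map (MulAut.conj a⁻¹).toMonoidHom ≤ C := by
    rintro _ ⟨y, hy, rfl⟩
    simp only [MulEquiv.coe_toMonoidHom, MulAut.conj_apply, inv_inv]
    refine mem_inf.mpr ⟨mul_mem (mul_mem (inv_mem ha) (map_subtype_le _ hy)) ha,
      mem_centralizer_iff.mpr fun z hz => ?_⟩
    have h1 : a * z * a⁻¹ ∈ (((a * b) • P : Sylow p G) : Subgroup G) := by
      rw [Sylow.coe_subgroup_smul, Subgroup.mem_pointwise_smul_iff_inv_smul_mem]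
      have := mul_mem (mul_mem (inv_mem hb) hz) hb
      simpa [MulAut.smul_def, mul_assoc] using this
    have h2 := mem_centralizer_iff.mp (hcent h1) y hy
    calc z * (a⁻¹ * y * a) = a⁻¹ * ((a * z * a⁻¹) * y) * a := by group
      _ = a⁻¹ * (y * (a * z * a⁻¹)) * a := by rw [h2]
      _ = _ := by group
  have h1 := card_dvd_of_le hle
  rw [card_map_of_injective (MulAut.conj a⁻¹).injective, hQ', card_map_of_injective A.subtype_injective,
    Q.card_eq_multiplicity] at h1
  exact (hq.pow_dvd_iff_le_factorization Nat.card_pos.ne').mp h1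

end CfsgLib.PNilpotent
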