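import Mathlib

/-!
The nilpotency class of a group of order `p ^ n` is at most `max 1 (n - 1)`.
-/

namespace CfsgLib.PNilpotent

universe u

theorem class_le {p : ℕ} [Fact p.Prime] (n : ℕ) : ∀ (G : Type u) [Group G] [Finite G],
    Nat.card G = p ^ n → Group.nilpotencyClass G ≤ max 1 (n - 1) := by
  induction n using Nat.strong_induction_on with
  | _ n ih =>
    intro G _ _ hn
    haveI hnil : Group.IsNilpotent G := (IsPGroup.of_card hn).isNilpotent
    have hp : p.Prime := Fact.out
    by_cases hab : Group.nilpotencyClass G ≤ 1
    · exact hab.trans (le_max_left _ _)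
    haveI : Nontrivial G := by
      by_contra h
      rw [not_nontrivial_iff_subsingleton] at h
      exact hab ((Group.nilpotencyClass_zero_iff_subsingleton.mpr h).le.trans zero_le_one)
    rw [Group.nilpotencyClass_eq_quotient_center_plus_one]
    have h1 := Subgroup.card_eq_card_quotient_mul_card_subgroup (Subgroup.center G)
    obtain ⟨m, hmn, hm⟩ : ∃ m < n, Nat.card (G ⧸ Subgroup.center G) = p ^ m := by
      obtain ⟨m, hmn, hm⟩ := (Nat.dvd_prime_pow hp).mp (hn ▸ Dvd.intro _ h1.symm)
      refine ⟨m, lt_of_le_of_ne hmn fun h => ?_, hm⟩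
      haveI := (IsPGroup.of_card hn).center_nontrivial
      have := (Subgroup.center G).one_lt_card_iff_ne_bot.mpr (Subgroup.nontrivial_iff_ne_bot _ |>.mp inferInstance)
      rw [hm, h, hn] at h1
      nlinarith [pow_pos hp.pos n]
    have h2 : 2 ≤ m := by
      by_contra hm2
      haveI : IsCyclic (G ⧸ Subgroup.center G) := by
        interval_cases m
        · exact isCyclic_of_card_dvd_prime (p := p) (by rw [hm]; simp)
        · exact isCyclic_of_card_dvd_prime (p := p) (by rw [hm, pow_one])
      apply hab
      rw [← Subgroup.lowerCentralSeries_eq_bot_iff_nilpotencyClass_le, Subgroup.top_lowerCentralSeries_one,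
        commutator_eq_bot_iff_center_eq_top, ← top_le_iff]
      intro a _
      rw [Subgroup.mem_center_iff]
      intro b
      exact ((QuotientGroup.mk' (Subgroup.center G)).isMulCommutative_of_isCyclic_of_ker_le_center
        (by rw [QuotientGroup.ker_mk'])).is_comm.comm b a
    exact (Nat.add_le_add_right (ih m hmn _ hm) 1).trans (by omega)

end CfsgLib.PNilpotent
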