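import Mathlib
import Cfsg.Prelude.Def_Transfer
import Cfsg.Agent.Lib.Fusion.ThompsonTransfer
import Cfsg.Agent.Lib.Fusion.FrobeniusCriterion

/-!
Fusion of involutions in a group with dihedral Sylow 2-subgroups, by transfer.
The Sylow 2-subgroup is given as the range of an injective `ι : DihedralGroup m →* G`.
-/

namespace CfsgLib.PNilpotent

open DihedralGroup

variable {m : ℕ}

/-- The automorphism fixing rotations and exchanging the two classes of reflections. -/
def dihShift (m : ℕ) : DihedralGroup m →* DihedralGroup m where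
  toFun
    | r i => r i
    | sr i => sr (i + 1)
  map_one' := rfl
  map_mul' := by
    rintro (i | i) (j | j) <;> simp only [r_mul_r, r_mul_sr, sr_mul_r, sr_mul_sr] <;> congr 1 <;> ring

@[simp] theorem dihShift_r (i : ZMod m) : dihShift m (r i) = r i := rfl

@[simp] theorem dihShift_sr (i : ZMod m) : dihShift m (sr i) = sr (i + 1) := rfl

theorem dihShift_bijective (m : ℕ) : Function.Bijective (dihShift m) := by
  refine ⟨?_, ?_⟩
  · rintro (i | i) (j | j) h <;> simp at h ⊢ <;> assumption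
  · rintro (i | i)
    · exact ⟨r i, rfl⟩
    · exact ⟨sr (i - 1), by simp⟩

/-- Parity homomorphism killing `r` even and `sr` even. -/
def dihParity (hm : 2 ∣ m) : DihedralGroup m →* Multiplicative (ZMod 2) where
  toFun
    | r i => .ofAdd (ZMod.castHom hm (ZMod 2) i)
    | sr i => .ofAdd (ZMod.castHom hm (ZMod 2) i)
  map_one' := by
    change Multiplicative.ofAdd (ZMod.castHom hm (ZMod 2) 0) = 1
    rw [map_zero, ofAdd_zero]
  map_mul' := by
    have key : ∀ x : ZMod 2, -x = x := by decide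
    rintro (i | i) (j | j) <;>
      simp only [r_mul_r, r_mul_sr, sr_mul_r, sr_mul_sr, ← ofAdd_add, map_add, map_sub] <;>
      congr 1 <;> rw [sub_eq_add_neg, key] <;> ring

@[simp] theorem dihParity_r (hm : 2 ∣ m) (i : ZMod m) :
    dihParity hm (r i) = .ofAdd (ZMod.castHom hm (ZMod 2) i) := rfl

@[simp] theorem dihParity_sr (hm : 2 ∣ m) (i : ZMod m) :
    dihParity hm (sr i) = .ofAdd (ZMod.castHom hm (ZMod 2) i) := rfl

theorem mult_zmod_two : ∀ y : Multiplicative (ZMod 2), y = 1 ∨ y = Multiplicative.ofAdd 1 := by decide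

theorem mult_one_one : (1 : Multiplicative (ZMod 2)) = Multiplicative.ofAdd 1 * Multiplicative.ofAdd 1 := by decide

theorem sr_ne_one (i : ZMod m) : (sr i : DihedralGroup m) ≠ 1 := fun h => by
  rw [one_def] at h; cases h

theorem mult_one_ne : Multiplicative.ofAdd (1 : ZMod 2) ≠ 1 := by decide

variable {G : Type*} [Group G] [Finite G] {ι : DihedralGroup m →* G}

theorem sr_even_conj {i : ZMod m} [NeZero m] (hm : 2 ∣ m) (hi : ZMod.castHom hm (ZMod 2) i = 0) :
    IsConj (sr 0 : DihedralGroup m) (sr i) := by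
  obtain ⟨j, hj⟩ : ∃ j : ZMod m, j + j = i := by
    have h : (i.val : ZMod 2) = 0 := by
      rw [← hi, ZMod.castHom_apply, ← ZMod.natCast_val]
    obtain ⟨k, hk⟩ := (ZMod.natCast_eq_zero_iff_even).mp h
    exact ⟨k, by rw [← Nat.cast_add, ← hk, ZMod.natCast_zmod_val]⟩
  rw [isConj_iff]
  refine ⟨r (-j), ?_⟩
  rw [inv_r, r_mul_sr, sr_mul_r]
  congr 1
  rw [← hj]; ring

theorem involution_cases [NeZero m] {h : ℕ} (hh : m = 2 * h) {x : DihedralGroup m} (hx : x ^ 2 = 1) :
    x = 1 ∨ x = r (h : ZMod m) ∨ ∃ i, x = sr i := by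
  rcases x with i | i
  · rw [pow_two, r_mul_r, one_def] at hx
    injection hx with hx
    rw [← ZMod.natCast_zmod_val i, ← Nat.cast_add, ZMod.natCast_eq_zero_iff] at hx
    obtain ⟨c, hc⟩ := hx
    have hlt := ZMod.val_lt i
    subst hh
    have hc1 : i.val = h * c := by linarith
    have hc2 : c < 2 := by
      by_contra hc2
      have : h * 2 ≤ h * c := Nat.mul_le_mul_left h (by omega)
      omega
    rw [← ZMod.natCast_zmod_val i, hc1]
    rcases (by omega : c = 0 ∨ c = 1) with rfl | rfl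
    · left; rw [Nat.mul_zero, Nat.cast_zero]; rfl
    · right; left; rw [Nat.mul_one]
  · exact Or.inr (Or.inr ⟨i, rfl⟩)

theorem range_relIndex_ker (hι : Function.Injective ι) (f : DihedralGroup m →* Multiplicative (ZMod 2))
    (hf : Function.Surjective f) : (f.ker.map ι).relIndex ι.range = 2 := by
  rw [MonoidHom.range_eq_map, Subgroup.relIndex_map_map_of_injective f.ker ⊤ hι, Subgroup.relIndex_top_right,
    Subgroup.index_ker, MonoidHom.range_eq_top.mpr hf, Subgroup.card_top, Nat.card_congr Multiplicative.toAdd,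
    Nat.card_zmod]

/-- Classes of the three kinds of involutions inside a Sylow 2-subgroup. -/
theorem conj_cases [NeZero m] (hm : 2 ∣ m) {h : ℕ} (hh : m = 2 * h) {x : DihedralGroup m}
    (hx : x ^ 2 = 1) (hx1 : x ≠ 1) :
    IsConj (ι (r (h : ZMod m))) (ι x) ∨ IsConj (ι (sr 0)) (ι x) ∨ IsConj (ι (sr 1)) (ι x) := by
  rcases involution_cases hh hx with rfl | rfl | ⟨i, rfl⟩
  · exact absurd rfl hx1
  · exact Or.inl (IsConj.refl _)
  · by_cases hi : ZMod.castHom hm (ZMod 2) i = 0
    · exact Or.inr (Or.inl (ι.map_isConj (sr_even_conj hm hi)))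
    · refine Or.inr (Or.inr ?_)
      have hi' : ZMod.castHom hm (ZMod 2) (i - 1) = 0 := by
        rw [map_sub, map_one]; revert hi; generalize ZMod.castHom hm (ZMod 2) i = y; revert y; decide
      have := (dihShift m).map_isConj (sr_even_conj hm hi')
      simpa using ι.map_isConj this

theorem exists_index_two_of_not_conj [NeZero m] (hι : Function.Injective ι) (hP : Odd ι.range.index)
    (hm : 2 ∣ m) {h : ℕ} (hh : m = 2 * h) (ha : IsConj (ι (r (h : ZMod m))) (ι (sr 0)))
    (hb : ¬ IsConj (ι (r (h : ZMod m))) (ι (sr 1))) :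
    ∃ M : Subgroup G, M.Normal ∧ M.index = 2 := by
  have hpar : Function.Surjective (dihParity hm) := fun y => by
    obtain ⟨k, hk⟩ := ZMod.natCast_zmod_surjective (n := 2) y.toAdd
    exact ⟨r (k : ZMod m), by rw [dihParity_r, map_natCast, hk]; rfl⟩
  have hb2 : ι (sr 1) ^ 2 = 1 := by rw [← map_pow, pow_two, sr_mul_self, map_one]
  obtain ⟨M, hM, hM2, -⟩ := CfsgLib.ThompsonTransfer.exists_normal_index_two ι.range ((dihParity hm).ker.map ι) hP
    (range_relIndex_ker hι _ hpar) (ι (sr 1)) hb2 (fun g hg => by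
      obtain ⟨x, hxk, hx⟩ := hg
      have hx2 : x ^ 2 = 1 := hι (by rw [map_pow, hx, conj_pow, hb2, map_one, mul_one, mul_inv_cancel])
      have hx1 : x ≠ 1 := by
        rintro rfl
        rw [map_one, eq_comm, conj_eq_one_iff] at hx
        rw [← map_one ι] at hx
        exact sr_ne_one _ (hι hx)
      have hc : IsConj (ι (sr 1)) (ι x) := isConj_iff.mpr ⟨g, hx.symm⟩
      rcases involution_cases hh hx2 with rfl | rfl | ⟨i, rfl⟩
      · exact hx1 rfl
      · exact hb hc.symm
      · refine hb ((ha.trans (ι.map_isConj (sr_even_conj hm ?_))).trans hc.symm)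
        simpa [dihParity] using hxk)
  exact ⟨M, hM, hM2⟩

theorem hasNormalPComplement_of_not_conj [NeZero m] (hι : Function.Injective ι) (P : Sylow 2 G)
    (hP : (P : Subgroup G) = ι.range)
    (hm : 2 ∣ m) {h : ℕ} (hh : m = 2 * h) (ha : ¬ IsConj (ι (r (h : ZMod m))) (ι (sr 0)))
    (hb : ¬ IsConj (ι (r (h : ZMod m))) (ι (sr 1))) :
    Cfsg.HasNormalPComplement 2 G ∧ ¬ IsConj (ι (sr 0)) (ι (sr 1)) := by
  classical
  haveI : Fact (Nat.Prime 2) := ⟨Nat.prime_two⟩
  have hPi : Odd ι.range.index := Nat.odd_iff.mpr (Nat.two_dvd_ne_zero.mp (hP ▸ P.not_dvd_index))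
  set f : DihedralGroup m →* Multiplicative (ZMod 2) :=
    { toFun := fun x => match x with | r _ => 1 | sr _ => Multiplicative.ofAdd (1 : ZMod 2)
      map_one' := rfl
      map_mul' := by rintro (i | i) (j | j) <;> simp only [r_mul_r, r_mul_sr, sr_mul_r, sr_mul_sr, one_mul, mul_one] <;> exact mult_one_one } with hf
  have hfs : Function.Surjective f := fun y => by
    rcases mult_zmod_two y with rfl | rfl
    · exact ⟨r 0, rfl⟩
    · exact ⟨sr 0, rfl⟩
  have hno : ∀ i : ZMod m, ¬ IsConj (ι (r (h : ZMod m))) (ι (sr i)) →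
      ∃ M : Subgroup G, M.Normal ∧ M.index = 2 ∧ ι (sr i) ∉ M := by
    intro i hi
    have hi2 : ι (sr i) ^ 2 = 1 := by rw [← map_pow, pow_two, sr_mul_self, map_one]
    refine CfsgLib.ThompsonTransfer.exists_normal_index_two ι.range (f.ker.map ι) hPi (range_relIndex_ker hι _ hfs) _ hi2 ?_
    intro g hg
    obtain ⟨x, hxk, hx⟩ := hg
    have hx2 : x ^ 2 = 1 := hι (by rw [map_pow, hx, conj_pow, hi2, map_one, mul_one, mul_inv_cancel])
    rcases involution_cases hh hx2 with rfl | rfl | ⟨j, rfl⟩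
    · rw [map_one, eq_comm, conj_eq_one_iff, ← map_one ι] at hx
      exact sr_ne_one _ (hι hx)
    · exact hi (isConj_iff.mpr ⟨g, hx.symm⟩).symm
    · exact mult_one_ne hxk
  obtain ⟨M₁, hM₁, hM₁i, hM₁a⟩ := hno 0 ha
  obtain ⟨M₂, hM₂, hM₂i, hM₂b⟩ := hno 1 hb
  -- a sign which is `-1` on both reflections
  obtain ⟨χ, hχa, hχb⟩ : ∃ χ : G →* ℤˣ, χ (ι (sr 0)) = -1 ∧ χ (ι (sr 1)) = -1 := by
    by_cases h1 : ι (sr 1) ∉ M₁
    · exact ⟨CfsgLib.ThompsonTransfer.indexTwoSign M₁ hM₁i, CfsgLib.ThompsonTransfer.indexTwoSign_eq_neg_one _ hM₁a,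
        CfsgLib.ThompsonTransfer.indexTwoSign_eq_neg_one _ h1⟩
    by_cases h2 : ι (sr 0) ∉ M₂
    · exact ⟨CfsgLib.ThompsonTransfer.indexTwoSign M₂ hM₂i, CfsgLib.ThompsonTransfer.indexTwoSign_eq_neg_one _ h2,
        CfsgLib.ThompsonTransfer.indexTwoSign_eq_neg_one _ hM₂b⟩
    push Not at h1 h2
    refine ⟨CfsgLib.ThompsonTransfer.indexTwoSign M₁ hM₁i * CfsgLib.ThompsonTransfer.indexTwoSign M₂ hM₂i, ?_, ?_⟩
    · rw [MonoidHom.mul_apply, CfsgLib.ThompsonTransfer.indexTwoSign_eq_neg_one _ hM₁a]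
      simp [CfsgLib.ThompsonTransfer.indexTwoSign, h2]
    · rw [MonoidHom.mul_apply, CfsgLib.ThompsonTransfer.indexTwoSign_eq_neg_one _ hM₂b]
      simp [CfsgLib.ThompsonTransfer.indexTwoSign, h1]
  have hχr : χ (ι (r 1)) = 1 := by
    rw [show (r 1 : DihedralGroup m) = sr 0 * sr 1 by rw [sr_mul_sr, sub_zero], map_mul, map_mul, hχa, hχb]; rfl
  have hNidx : χ.ker.index = 2 := by
    rw [Subgroup.index_ker, MonoidHom.range_eq_top.mpr, Subgroup.card_top, Nat.card_eq_fintype_card]
    · rfl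
    · intro y
      rcases Int.units_eq_one_or y with rfl | rfl
      · exact ⟨1, map_one _⟩
      · exact ⟨_, hχa⟩
  -- the Sylow subgroups of the kernel are cyclic
  set z := ι (r 1) with hz
  have hzo : orderOf z = m := by rw [hz, orderOf_injective ι hι, orderOf_r_one]
  have hzle : Subgroup.zpowers z ≤ χ.ker := Subgroup.zpowers_le.mpr hχr
  set C : Subgroup χ.ker := (Subgroup.zpowers z).subgroupOf χ.ker
  have hCcard : Nat.card C = m := by
    rw [Nat.card_congr (Subgroup.subgroupOfEquivOfLe hzle).toEquiv, Nat.card_zpowers, hzo]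
  have hPcard : Nat.card (P : Subgroup G) = 2 * m := by
    rw [hP, ← Nat.card_congr (MonoidHom.ofInjective hι).toEquiv, DihedralGroup.nat_card]
  have hG := χ.ker.card_mul_index
  have hC : Nat.card C = 2 ^ (Nat.card χ.ker).factorization 2 := by
    have h1 := P.card_eq_multiplicity
    rw [← hG, hNidx, Nat.factorization_mul Nat.card_pos.ne' two_ne_zero, Finsupp.add_apply,
      Nat.prime_two.factorization_self, pow_succ] at h1
    have h2 : Nat.card (P : Subgroup G) = _ := h1
    rw [hPcard] at h2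
    rw [hCcard]; omega
  let S : Sylow 2 χ.ker := Sylow.ofCard C hC
  haveI : IsCyclic S := by
    change IsCyclic C
    exact isCyclic_of_injective (Subgroup.subgroupOfEquivOfLe hzle).toMonoidHom
      (Subgroup.subgroupOfEquivOfLe hzle).injective
  have hmin : (Nat.card χ.ker).minFac = 2 ∨ ¬ 2 ∣ Nat.card χ.ker := by
    by_cases hd : 2 ∣ Nat.card χ.ker
    · exact Or.inl ((Nat.minFac_eq_two_iff _).mpr hd)
    · exact Or.inr hd
  have hK : Cfsg.HasNormalPComplement 2 χ.ker := by
    rcases hmin with hmin | hmin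
    · exact ⟨S, _, inferInstance, MonoidHom.ker_transferSylow_isComplement' S
        (IsCyclic.normalizer_le_centralizer (P := S) hmin inferInstance)⟩
    · exact CfsgLib.NPC.hasNormalPComplement_iff.mpr
        ⟨⊤, inferInstance, by rw [Subgroup.card_top, Nat.coprime_comm]; exact Nat.prime_two.coprime_iff_not_dvd.mpr hmin,
          0, by rw [Subgroup.index_top, pow_zero]⟩
  have hG2 : Cfsg.HasNormalPComplement 2 G :=
    CfsgLib.NPC.hasNormalPComplement_of_normal χ.ker (k := 1) (by rw [hNidx, pow_one]) hK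
  refine ⟨hG2, fun hconj => ?_⟩
  obtain ⟨K, hKn, hKc, k, hKi⟩ := CfsgLib.NPC.hasNormalPComplement_iff.mp hG2
  set π := QuotientGroup.mk' K
  have hinj : ∀ x y : DihedralGroup m, π (ι x) = π (ι y) → x = y := by
    intro x y hxy
    have h1 : ι (x⁻¹ * y) ∈ K := by
      rw [map_mul, map_inv]; exact (QuotientGroup.eq).mp hxy
    have h2 : orderOf (ι (x⁻¹ * y)) ∣ 1 := by
      rw [← Nat.Coprime.gcd_eq_one (Nat.Coprime.pow_right (P.isPGroup'.exists_card_eq).choose hKc)]
      refine Nat.dvd_gcd (Subgroup.orderOf_dvd_natCard _ h1) ?_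
      rw [← (P.isPGroup'.exists_card_eq).choose_spec]
      exact Subgroup.orderOf_dvd_natCard _ (hP ▸ ⟨_, rfl⟩)
    have h3 : ι (x⁻¹ * y) = 1 := orderOf_eq_one_iff.mp (Nat.dvd_one.mp h2)
    rw [← map_one ι] at h3
    exact (inv_mul_eq_one.mp (hι h3))
  obtain ⟨g, hg⟩ := isConj_iff.mp hconj
  have hsurj : ∀ g : G, ∃ x, π (ι x) = π g := by
    intro g
    have hcard : Nat.card (G ⧸ K) ≤ Nat.card (DihedralGroup m) := by
      rw [← Subgroup.index_eq_card]
      refine Nat.le_of_dvd Nat.card_pos ?_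
      have h1 : K.index ∣ Nat.card G := K.index_dvd_card
      rw [← (P : Subgroup G).card_mul_index, hKi] at h1
      rw [← DihedralGroup.nat_card] at hPcard
      rw [hKi, ← hPcard]
      exact (Nat.Coprime.pow_left k (Nat.prime_two.coprime_iff_not_dvd.mpr P.not_dvd_index)).dvd_of_dvd_mul_right h1
    exact ((Function.Injective.bijective_of_nat_card_le (f := fun x => π (ι x)) (fun x y => hinj x y) hcard).surjective (π g))
  obtain ⟨x, hx⟩ := hsurj g
  have h4 : x * sr 0 * x⁻¹ = sr 1 := hinj _ _ (by rw [← hg]; simp [hx])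
  have hodd : ∀ x : DihedralGroup m, dihParity hm (x * sr 0 * x⁻¹) = 1 := fun x => by
    rw [map_mul, map_mul, map_inv, mul_comm (dihParity hm x), mul_inv_cancel_right]
    simp [dihParity]
  have := hodd x
  rw [h4, dihParity_sr, map_one] at this
  exact mult_one_ne this

/-- A normal subgroup of index 2 or 4 contains the central involution. -/
theorem central_mem (N : Subgroup G) [N.Normal] (hN : N.index = 2 ∨ N.index = 4) {h : ℕ} (hh : 2 ∣ h) :
    ι (r (h : ZMod m)) ∈ N := by
  obtain ⟨k, rfl⟩ := hh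
  have hcomm : ∀ x y : G ⧸ N, x * y = y * x := by
    haveI : Fact (Nat.Prime 2) := ⟨Nat.prime_two⟩
    rcases hN with hN | hN
    · haveI : IsCyclic (G ⧸ N) := isCyclic_of_prime_card (p := 2) (by rw [← Subgroup.index_eq_card, hN])
      exact fun x y => IsMulCommutative.is_comm.comm x y
    · exact fun x y => (IsPGroup.commGroupOfCardEqPrimeSq (p := 2) (by rw [← Subgroup.index_eq_card, hN]; rfl)).mul_comm x y
  set π := (QuotientGroup.mk' N).comp ι
  rw [← QuotientGroup.eq_one_iff]
  change π (r ((2 * k : ℕ) : ZMod m)) = 1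
  have h1 : π (r 1) * π (r 1) = 1 := by
    have e : (sr 0 * r 1 * sr 0 : DihedralGroup m) * r 1 = 1 := by
      rw [sr_mul_r, sr_mul_sr, r_mul_r, one_def]; congr 1; ring
    have := congrArg π e
    rw [map_mul, map_mul, map_mul, map_one, hcomm (π (sr 0)) (π (r 1)), mul_assoc (π (r 1)), ← map_mul π (sr 0),
      sr_mul_self, map_one, mul_one] at this
    exact this
  rw [← r_one_pow, map_pow, pow_mul, pow_two, h1, one_pow]

end CfsgLib.PNilpotent
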